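import Cfsg.Agent.Lib.U43Type.Final
import Cfsg.Agent.Lib.U43Type.Points

/-!
Groups of `U₄(3)` type: an element of order three of a factor is a commutator of two elements of its centralizer.
-/

set_option autoImplicit false
set_option linter.style.haveILetI false

namespace CfsgLib.SuzThree

open CfsgLib.U43Type

universe u

variable {G : Type u} [Group G]

/-- A commutator of two elements commuting with it. -/
def IsRoot (x : G) : Prop := ∃ b c : G, Commute b x ∧ Commute c x ∧ b * c * b⁻¹ * c⁻¹ = x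

theorem IsRoot.inv {x : G} (h : IsRoot x) : IsRoot x⁻¹ := by
  obtain ⟨b, c, hb, hc, he⟩ := h
  exact ⟨c, b, hc.inv_right, hb.inv_right, by rw [← he]; group⟩

theorem IsRoot.map {H : Type*} [Group H] (φ : G →* H) {x : G} (h : IsRoot x) : IsRoot (φ x) := by
  obtain ⟨b, c, hb, hc, he⟩ := h
  exact ⟨φ b, φ c, hb.map φ, hc.map φ, by rw [← he]; simp⟩

theorem words_check :
    (CfsgLib.CosetEnum.allFrom (fun k => Nat.beq (PermRep.act [7, 0] k) (PermRep.act [0, 7] k)) 280 0 &&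
    CfsgLib.CosetEnum.allFrom (fun k => Nat.beq (PermRep.act [12, 0] k) (PermRep.act [0, 12] k)) 280 0 &&
    CfsgLib.CosetEnum.allFrom (fun k => Nat.beq (PermRep.act [7, 12, 8, 11] k) (PermRep.act [0] k)) 280 0) = true := by
  decide +kernel

theorem perm_eq {l l' : List ℕ} (hl : ∀ x ∈ l, x < 15) (hl' : ∀ x ∈ l', x < 15)
    (h : CfsgLib.CosetEnum.allFrom (fun k => Nat.beq (PermRep.act l k) (PermRep.act l' k)) 280 0 = true) :
    wordVal PermRep.perm l = wordVal PermRep.perm l' :=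
  Equiv.ext fun k => Fin.ext (by
    rw [PermRep.word_val hl, PermRep.word_val hl']
    exact Nat.eq_of_beq_eq_true
      (CfsgLib.CosetEnum.allFrom_spec _ _ _ h k (Nat.zero_le _) (by have := k.2; omega)))

theorem three_conj : ∀ a : SL23, a ^ 3 = 1 → a ≠ 1 →
    ∃ e : SL23, a = e * SL23.xx * e⁻¹ ∨ a = (e * SL23.xx * e⁻¹)⁻¹ := by decide +kernel

theorem cube_or : ∀ a b : SL23, (a ^ 3 = 1 ∧ b ^ 3 = 1) ∨ (a ^ 3 = SL23.neg ∧ b ^ 3 = SL23.neg) →
    (a * SL23.neg) ^ 3 = 1 ∧ (b * SL23.neg) ^ 3 = 1 ∨ a ^ 3 = 1 ∧ b ^ 3 = 1 := by decide +kernel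

theorem three_comm : ∀ a b : SL23, a ^ 3 = 1 → b ^ 3 = 1 → a ≠ 1 → b ≠ 1 → a * b = b * a → b = a ∨ b = a⁻¹ := by
  decide +kernel

theorem six_kills : ∀ a q : SL23, a ^ 3 = 1 → q * q = SL23.neg →
    (q * a = a * q ∨ q * a = a * q * SL23.neg) → a = 1 := by decide +kernel

/-- An element of order three in a factor of the frame lies in a factor of the coordinates of `D`. -/
theorem exists_side [Finite G] (D : Hyp G) (F : Frame G) (hFz : F.D.z = D.z) {c e : Pr} (hc : c ^ 3 = 1)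
    (he : e * e = (1, SL23.neg) ∨ e * e = (SL23.neg, 1)) (hce : c * e = e * c) :
    ∃ (r : Bool) (a : SL23), a ^ 3 = 1 ∧ D.f (Hyp.side r a) = F.D.f c := by
  have h3' : ∀ d : Pr, d ^ 3 = 1 → F.D.f d ∈ D.f.range := fun d hd => by
    refine D.odd_mem _ (hFz ▸ F.D.f_comm _) (Odd.of_dvd_nat (by decide : Odd 3) ?_)
    exact orderOf_dvd_of_pow_eq_one (by rw [← map_pow, hd, map_one])
  obtain ⟨⟨a, b⟩, hab⟩ := h3' c hc
  have hcube : (a, b) ^ 3 = 1 ∨ (a, b) ^ 3 = ((SL23.neg, SL23.neg) : Pr) :=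
    (D.ker _).1 (by rw [map_pow, hab, ← map_pow, hc, map_one])
  obtain ⟨a', b', ha', hb', hab'⟩ : ∃ a' b' : SL23, a' ^ 3 = 1 ∧ b' ^ 3 = 1 ∧ D.f (a', b') = F.D.f c := by
    rcases cube_or a b (hcube.imp (fun h => ⟨congrArg Prod.fst h, congrArg Prod.snd h⟩)
        (fun h => ⟨congrArg Prod.fst h, congrArg Prod.snd h⟩)) with ⟨p, q⟩ | ⟨p, q⟩
    · exact ⟨_, _, p, q, by rw [← hab]; exact D.eq_iff.2 (Or.inr rfl)⟩
    · exact ⟨_, _, p, q, hab⟩
  have hrange : ∀ p : Pr, F.D.f p ∈ D.f.range := by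
    have hxy : SL23.xx ^ 3 = 1 ∧ SL23.yy ^ 3 = 1 := by decide +kernel
    intro p
    obtain ⟨u, hu⟩ := SL23.word4 p.1
    obtain ⟨v, hv⟩ := SL23.word4 p.2
    rw [show p = ((p.1, 1) : Pr) * (1, p.2) by simp, map_mul]
    refine mul_mem ?_ ?_
    · rw [hu]
      have hsp : ∀ a b : SL23, F.D.f (a * b, 1) = F.D.f (a, 1) * F.D.f (b, 1) := fun a b => by
        rw [← map_mul]; simp
      simp only [hsp]
      refine mul_mem (mul_mem (mul_mem ?_ ?_) ?_) ?_ <;>
      · refine h3' _ (Prod.ext ?_ (one_pow 3))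
        rw [Prod.pow_fst, ← pow_mul, mul_comm, pow_mul]
        simp [hxy]
    · rw [hv]
      have hsp : ∀ a b : SL23, F.D.f (1, a * b) = F.D.f (1, a) * F.D.f (1, b) := fun a b => by
        rw [← map_mul]; simp
      simp only [hsp]
      refine mul_mem (mul_mem (mul_mem ?_ ?_) ?_) ?_ <;>
      · refine h3' _ (Prod.ext (one_pow 3) ?_)
        rw [Prod.pow_snd, ← pow_mul, mul_comm, pow_mul]
        simp [hxy]
  obtain ⟨q, hq⟩ := hrange e
  have hq2 : D.f (q * q) = D.f (SL23.neg, 1) := by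
    rw [map_mul, hq, D.f_neg, ← hFz, ← map_mul]
    rcases he with h | h <;> rw [h]
    · exact F.D.f_neg'
    · exact F.D.f_neg
  have hqs : q.1 * q.1 = SL23.neg ∧ q.2 * q.2 = 1 ∨ q.1 * q.1 = 1 ∧ q.2 * q.2 = SL23.neg := by
    rcases D.eq_iff.1 hq2 with h | h
    · exact Or.inl ⟨congrArg Prod.fst h, congrArg Prod.snd h⟩
    · refine Or.inr ⟨(congrArg Prod.fst h).trans (by decide +kernel), (congrArg Prod.snd h).trans ?_⟩
      simp
  have hqc : Equ (q * (a', b')) ((a', b') * q) := by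
    refine D.eq_iff.1 ?_
    rw [map_mul, map_mul, hq, hab', ← map_mul, ← map_mul, hce]
  have hq1 : (q.1 * a' = a' * q.1 ∨ q.1 * a' = a' * q.1 * SL23.neg) ∧
      (q.2 * b' = b' * q.2 ∨ q.2 * b' = b' * q.2 * SL23.neg) := by
    rcases hqc with h | h
    · exact ⟨Or.inl (congrArg Prod.fst h), Or.inl (congrArg Prod.snd h)⟩
    · exact ⟨Or.inr (congrArg Prod.fst h), Or.inr (congrArg Prod.snd h)⟩
  rcases hqs with ⟨h, -⟩ | ⟨-, h⟩
  · obtain rfl := six_kills a' q.1 ha' h hq1.1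
    exact ⟨false, b', hb', hab'⟩
  · obtain rfl := six_kills b' q.2 hb' h hq1.2
    exact ⟨true, a', ha', hab'⟩

/-- An element of order three of either factor is a root element. -/
theorem root_side [Finite G] (D : Hyp G) (r : Bool) {a : SL23} (ha : a ^ 3 = 1) (hane : a ≠ 1) :
    IsRoot (D.f (Hyp.side r a)) := by
  classical
  obtain ⟨F, hFz⟩ := D.exists_frame
  obtain ⟨B⟩ := F.exists_eBase
  have hc := words_check
  simp only [Bool.and_eq_true] at hc
  obtain ⟨⟨h1, h2⟩, h3⟩ := hc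
  have key : ∀ l l' : List ℕ, wordVal PermRep.perm l = wordVal PermRep.perm l' →
      wordVal B.lett l = wordVal B.lett l' := fun l l' h =>
    congrArg Subtype.val (B.ψ_inj (show B.ψ (B.wH l) = B.ψ (B.wH l') by rw [B.ψ_word, B.ψ_word, h]))
  have e1 := key _ _ (perm_eq (by decide) (by decide) h1)
  have e2 := key _ _ (perm_eq (by decide) (by decide) h2)
  have e3 := key _ _ (perm_eq (by decide) (by decide) h3)
  simp only [wordVal, List.map_cons, List.map_nil, List.prod_cons, List.prod_nil, mul_one, Frame.EBase.lett,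
    letters] at e1 e2 e3
  have hroot : IsRoot F.xa := ⟨B.v, B.u⁻¹, e1, e2, by rw [inv_inv, ← e3]; group⟩
  have hroot' : IsRoot F.xb := by
    have := hroot.map (MulAut.conj F.s).toMonoidHom
    rwa [show (MulAut.conj F.s).toMonoidHom F.xa = F.xb from F.s_conj _] at this
  have hconj : ∀ (r : Bool) (g x : SL23), IsRoot (D.f (Hyp.side r x)) →
      IsRoot (D.f (Hyp.side r (g * x * g⁻¹))) := by
    intro r g x h
    have := h.map (MulAut.conj (D.f (Hyp.side r g))).toMonoidHom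
    rwa [show (MulAut.conj (D.f (Hyp.side r g))).toMonoidHom (D.f (Hyp.side r x)) =
      D.f (Hyp.side r (g * x * g⁻¹)) by
        cases r <;> simp [Hyp.side, ← map_mul, ← map_inv]] at this
  have hinv : ∀ (r : Bool) (x : SL23), IsRoot (D.f (Hyp.side r x)) → IsRoot (D.f (Hyp.side r x⁻¹)) := by
    intro r x h
    have := h.inv
    rwa [← map_inv, show (Hyp.side r x)⁻¹ = Hyp.side r x⁻¹ by cases r <;> simp [Hyp.side]] at this
  have hfin : ∀ (r : Bool) (c : SL23), c ^ 3 = 1 → c ≠ 1 → IsRoot (D.f (Hyp.side r c)) →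
      ∀ a : SL23, a ^ 3 = 1 → a ≠ 1 → IsRoot (D.f (Hyp.side r a)) := by
    intro r c hc3 hcne h a ha hane
    have hxx : IsRoot (D.f (Hyp.side r SL23.xx)) := by
      obtain ⟨e, he | he⟩ := three_conj c hc3 hcne
      · have := hconj r e⁻¹ c h
        rwa [he, show e⁻¹ * (e * SL23.xx * e⁻¹) * e⁻¹⁻¹ = SL23.xx by group] at this
      · have := hinv r _ (hconj r e⁻¹ c h)
        rwa [he, show (e⁻¹ * (e * SL23.xx * e⁻¹)⁻¹ * e⁻¹⁻¹)⁻¹ = SL23.xx by group] at this
    obtain ⟨e, he | he⟩ := three_conj a ha hane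
    · rw [he]; exact hconj r e _ hxx
    · rw [he]; exact hinv r _ (hconj r e _ hxx)
  -- the two factors
  have hxy : ((SL23.xx, 1) : Pr) ^ 3 = 1 ∧ ((1, SL23.xx) : Pr) ^ 3 = 1 := by decide +kernel
  have hne : ∀ {r : Bool} {c : SL23} {x : G}, D.f (Hyp.side r c) = x → x ≠ 1 → c ≠ 1 := by
    intro r c x h hx hc
    exact hx (by rw [← h, hc, show Hyp.side r (1 : SL23) = 1 by cases r <;> rfl, map_one])
  obtain ⟨r1, c1, hc1, h1⟩ := exists_side D F hFz hxy.1 (e := (1, SL23.qi))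
    (Or.inl (by decide +kernel)) (by simp)
  obtain ⟨r2, c2, hc2, h2⟩ := exists_side D F hFz hxy.2 (e := (SL23.qi, 1))
    (Or.inr (by decide +kernel)) (by simp)
  have hn1 : c1 ≠ 1 := hne h1 (Frame.EBase.xa_ne (F := F))
  have hn2 : c2 ≠ 1 := hne h2 (by rw [← map_one F.D.f, Ne, F.D.eq_iff]; decide +kernel)
  have hr : r1 ≠ r2 := by
    rintro rfl
    have hcomm : Hyp.side r1 (c1 * c2) = Hyp.side r1 c1 * Hyp.side r1 c2 := Hyp.side_mul _ _ _
    have h : c1 * c2 = c2 * c1 := D.side_inj (s := r1) (by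
      rw [Hyp.side_mul, Hyp.side_mul, map_mul, map_mul, h1, h2, ← map_mul, ← map_mul]
      simp)
    rcases three_comm c1 c2 hc1 hc2 hn1 hn2 h with rfl | rfl
    · rw [h1, F.D.eq_iff] at h2
      exact absurd h2 (by decide +kernel)
    · rw [show Hyp.side r1 c1⁻¹ = (Hyp.side r1 c1)⁻¹ by cases r1 <;> simp [Hyp.side], map_inv, h1,
        ← map_inv, F.D.eq_iff] at h2
      exact absurd h2 (by decide +kernel)
  have k1 : IsRoot (D.f (Hyp.side r1 c1)) := h1.symm ▸ hroot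
  have k2 : IsRoot (D.f (Hyp.side r2 c2)) := h2.symm ▸ hroot'
  cases r <;> cases r1 <;> cases r2 <;>
    first
      | exact absurd rfl hr
      | exact hfin _ c1 hc1 hn1 k1 a ha hane
      | exact hfin _ c2 hc2 hn2 k2 a ha hane

end CfsgLib.SuzThree

namespace CfsgLib.U43Type

universe u

/-- An element of order three of the first factor is a commutator in its centralizer. -/
theorem exists_root_comm {G : Type u} [Group G] [Finite G] (D : Hyp G) {a : SL23} (ha : a ^ 3 = 1) (ha1 : a ≠ 1) :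
    ∃ b c, Commute b (D.f (a, 1)) ∧ Commute c (D.f (a, 1)) ∧ b * c * b⁻¹ * c⁻¹ = D.f (a, 1) :=
  CfsgLib.SuzThree.root_side D true ha ha1

end CfsgLib.U43Type
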