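import Cfsg.Agent.Lib.SuzThree.Type
import Cfsg.Agent.Lib.SuzThree.Root
import Cfsg.Agent.Lib.U43Type.Final
import Cfsg.Agent.Lib.Classical.Herm.Std
import Cfsg.Prelude.Def_CaseTheorems

/-!
The centralizer of the element of order three is a perfect triple cover of `U₄(3)`.
-/

set_option autoImplicit false
set_option linter.style.haveILetI false
set_option maxRecDepth 10000
set_option synthInstance.maxSize 20000
set_option maxHeartbeats 400000

namespace CfsgLib.SuzThree

open CfsgLib.SuzType CfsgLib.Classical.Quad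
open CfsgLib.U43Type (SL23 Pr Qs)
open scoped commutatorElement

universe u v

variable {G : Type u} [Group G]

namespace Frame

variable {S : Sys G} {z : G} {F : Frame S z}

section
variable {H : Type v} [Group H] (q : ↥(Subgroup.centralizer ({F.y} : Set G)) →* H)
  (hsurj : Function.Surjective q) (hker : ∀ x, q x = 1 ↔ (x : G) ∈ Subgroup.zpowers F.y)
include hsurj hker

/-- The centralizer of `y` is quasisimple with quotient `U₄(3)`. -/
theorem main [Finite G] (K : Type) [Field K] [Fintype K] (hK : Fintype.card K = 9) :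
    Nonempty (H ≃* Cfsg.PSU 4 K 3) ∧ Cfsg.IsQuasisimple ↥(Subgroup.centralizer ({F.y} : Set G)) := by
  obtain ⟨P⟩ := F.exists_factors
  haveI : Finite H := Finite.of_surjective q hsurj
  obtain ⟨D, -, hDf⟩ := P.hyp q hsurj hker
  obtain ⟨e⟩ := CfsgLib.U43Type.iso_psu D K hK
  refine ⟨⟨e⟩, ?_⟩
  haveI : IsSimpleGroup (Cfsg.PSU 4 K 3) :=
    CfsgLib.Classical.Herm.isSimpleGroup_psu (q := 3) (by rw [hK]; norm_num) (n := 4) (by norm_num) (by omega)
  haveI : Nontrivial H := ⟨⟨D.z, 1, D.z_ne⟩⟩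
  haveI : IsSimpleGroup H := MulEquiv.isSimpleGroup e
  have hnc : commutator H = ⊤ := by
    refine (IsSimpleGroup.eq_bot_or_eq_top_of_normal (commutator H) inferInstance).resolve_left fun h => ?_
    have hz : Subgroup.centralizer ({D.z} : Set H) = ⊤ := by
      rw [eq_top_iff]
      intro x _
      refine Subgroup.mem_centralizer_singleton_iff.2 ?_
      have : ⁅x, D.z⁆ ∈ commutator H := Subgroup.commutator_mem_commutator (Subgroup.mem_top _) (Subgroup.mem_top _)
      rw [h, Subgroup.mem_bot] at this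
      exact commutatorElement_eq_one_iff_mul_comm.1 this
    have h1 := D.card_C
    rw [hz, Subgroup.card_top, (CfsgLib.U43Type.order_and_class D).1] at h1
    norm_num at h1
  have hmap : (commutator ↥(Subgroup.centralizer ({F.y} : Set G))).map q = ⊤ := by
    rw [commutator_def, Subgroup.map_commutator, Subgroup.map_top_of_surjective q hsurj, ← commutator_def, hnc]
  have hyN : F.y ∈ Subgroup.centralizer ({F.y} : Set G) := Subgroup.mem_centralizer_singleton_iff.2 rfl
  obtain ⟨yN, hyNdef⟩ : ∃ yN : ↥(Subgroup.centralizer ({F.y} : Set G)), yN = ⟨F.y, hyN⟩ := ⟨_, rfl⟩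
  have hk : ∀ x, q x = 1 → ∃ n : ℤ, x = yN ^ n := fun x hx => by
    obtain ⟨n, hn⟩ := Subgroup.mem_zpowers_iff.1 ((hker x).1 hx)
    exact ⟨n, Subtype.ext (by rw [SubgroupClass.coe_zpow, hyNdef, hn])⟩
  have hy : yN ∈ commutator ↥(Subgroup.centralizer ({F.y} : Set G)) := by
    by_contra hy
    have hinj : ∀ x, x ∈ commutator ↥(Subgroup.centralizer ({F.y} : Set G)) → q x = 1 → x = 1 := by
      intro x hx hqx
      obtain ⟨n, rfl⟩ := hk x hqx
      by_contra hne
      refine hy ?_
      have h3 : yN ^ (3 : ℤ) = 1 := Subtype.ext (by rw [SubgroupClass.coe_zpow, hyNdef, Subgroup.coe_one]; exact (zpow_natCast F.y 3).trans F.cube)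
      have hn : n % 3 = 1 ∨ n % 3 = 2 := by
        rcases (by omega : n % 3 = 0 ∨ n % 3 = 1 ∨ n % 3 = 2) with h | h | h
        · exact absurd (by rw [← Int.mul_ediv_add_emod n 3, zpow_add, zpow_mul, h3, one_zpow, h, zpow_zero, mul_one]) hne
        · exact Or.inl h
        · exact Or.inr h
      have hx' : yN ^ n = yN ^ (n % 3) := by
        conv_lhs => rw [← Int.mul_ediv_add_emod n 3, zpow_add, zpow_mul, h3, one_zpow, one_mul]
      rw [hx'] at hx
      rcases hn with h | h <;> rw [h] at hx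
      · rwa [zpow_one] at hx
      · have := Subgroup.mul_mem _ hx hx
        rwa [← zpow_add, show (2 : ℤ) + 2 = 3 + 1 from rfl, zpow_add, h3, one_mul, zpow_one] at this
    have heq : ∀ x x', x ∈ commutator ↥(Subgroup.centralizer ({F.y} : Set G)) →
        x' ∈ commutator ↥(Subgroup.centralizer ({F.y} : Set G)) → q x = q x' → x = x' := fun x x' hx hx' h =>
      mul_inv_eq_one.1 (hinj _ (Subgroup.mul_mem _ hx (Subgroup.inv_mem _ hx'))
        (by rw [map_mul, map_inv, h, mul_inv_cancel]))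
    -- the second element
    have hy2N : F.y2 ∈ Subgroup.centralizer ({F.y} : Set G) := Subgroup.mem_centralizer_singleton_iff.2 F.c12.eq
    have hy2 : (⟨F.y2, hy2N⟩ : ↥(Subgroup.centralizer ({F.y} : Set G))) ∈ commutator _ := by
      obtain ⟨c, -, hcy, hc⟩ := F.inverts.1
      have : ⁅(⟨c, Subgroup.mem_centralizer_singleton_iff.2 hcy.eq⟩ : ↥(Subgroup.centralizer ({F.y} : Set G))),
          (⟨F.y2, hy2N⟩ : ↥(Subgroup.centralizer ({F.y} : Set G)))⁆ = ⟨F.y2, hy2N⟩ := by
        refine Subtype.ext ?_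
        show c * F.y2 * c⁻¹ * F.y2⁻¹ = F.y2
        rw [hc, ← mul_inv_rev, inv_eq_iff_mul_eq_one, ← pow_two, ← pow_succ, F.cube2]
      rw [← this]
      exact Subgroup.commutator_mem_commutator (Subgroup.mem_top _) (Subgroup.mem_top _)
    obtain ⟨a, ha⟩ := P.B2.r_mem
    have ha3 : a ^ 3 = 1 := P.B2.inj (by rw [map_pow, ha, F.cube2, map_one])
    have hane : a ≠ 1 := fun h => by
      rw [h, map_one] at ha
      have h2 := F.M.acts_unique F.hy2 (ha ▸ F.M.acts_mem (S.E z).one_mem)
      have := congrArg (fun k : Orth Q6 => k.1 a2) h2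
      simp only [R2_apply, one_apply] at this
      exact absurd this (by decide)
    obtain ⟨b', c', hb', hc', hbc⟩ := CfsgLib.U43Type.exists_root_comm D ha3 hane
    have hfa : D.f (a, 1) = q ⟨F.y2, hy2N⟩ := by
      rw [hDf, MonoidHom.comp_apply]
      exact congrArg q (Subtype.ext (by rw [Factors.f0_apply, map_one, mul_one, ha]))
    rw [hfa] at hb' hc' hbc
    obtain ⟨b, hb, rfl⟩ : b' ∈ (commutator ↥(Subgroup.centralizer ({F.y} : Set G))).map q := hmap ▸ trivial
    obtain ⟨c, hc, rfl⟩ : c' ∈ (commutator ↥(Subgroup.centralizer ({F.y} : Set G))).map q := hmap ▸ trivial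
    have hcomm : ∀ {x}, x ∈ commutator ↥(Subgroup.centralizer ({F.y} : Set G)) →
        Commute (q x) (q ⟨F.y2, hy2N⟩) → Commute x ⟨F.y2, hy2N⟩ := fun {x} hx h =>
      heq _ _ (Subgroup.mul_mem _ hx hy2) (Subgroup.mul_mem _ hy2 hx) (by rw [map_mul, map_mul, h.eq])
    have hb2 := hcomm hb hb'
    have hc2 := hcomm hc hc'
    have hbc2 : b * c * b⁻¹ * c⁻¹ = ⟨F.y2, hy2N⟩ :=
      heq _ _ (Subgroup.mul_mem _ (Subgroup.mul_mem _ (Subgroup.mul_mem _ hb hc) (Subgroup.inv_mem _ hb))
        (Subgroup.inv_mem _ hc)) hy2 (by rw [map_mul, map_mul, map_mul, map_inv, map_inv, hbc])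
    obtain ⟨d, -, hd⟩ := F.conj_y2
    have hmove : ∀ x : ↥(Subgroup.centralizer ({F.y} : Set G)), Commute x ⟨F.y2, hy2N⟩ →
        d * (x : G) * d⁻¹ ∈ Subgroup.centralizer ({F.y} : Set G) := fun x h => by
      refine Subgroup.mem_centralizer_singleton_iff.2 ?_
      have h' : (x : G) * F.y2 = F.y2 * (x : G) := congrArg Subtype.val h.eq
      have key : d * (x : G) * d⁻¹ * (d * F.y2 * d⁻¹) = d * F.y2 * d⁻¹ * (d * (x : G) * d⁻¹) := by
        rw [show d * (x : G) * d⁻¹ * (d * F.y2 * d⁻¹) = d * ((x : G) * F.y2) * d⁻¹ by group, h']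
        group
      rwa [hd] at key
    refine hy ?_
    have he : ⁅(⟨_, hmove b hb2⟩ : ↥(Subgroup.centralizer ({F.y} : Set G))),
        (⟨_, hmove c hc2⟩ : ↥(Subgroup.centralizer ({F.y} : Set G)))⁆ = yN := by
      rw [hyNdef]
      refine Subtype.ext ?_
      show d * (b : G) * d⁻¹ * (d * (c : G) * d⁻¹) * (d * (b : G) * d⁻¹)⁻¹ * (d * (c : G) * d⁻¹)⁻¹ = F.y
      have := congrArg Subtype.val hbc2
      simp only [Subgroup.coe_mul, InvMemClass.coe_inv] at this
      refine Eq.trans ?_ hd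
      rw [← this]
      group
    rw [← he]
    exact Subgroup.commutator_mem_commutator (Subgroup.mem_top _) (Subgroup.mem_top _)
  have hperf : commutator ↥(Subgroup.centralizer ({F.y} : Set G)) = ⊤ := by
    rw [eq_top_iff]
    intro x _
    obtain ⟨w, hw, e'⟩ : q x ∈ (commutator ↥(Subgroup.centralizer ({F.y} : Set G))).map q := hmap ▸ trivial
    obtain ⟨n, hn⟩ := hk (x * w⁻¹) (by rw [map_mul, map_inv, e', mul_inv_cancel])
    rw [show x = x * w⁻¹ * w by group, hn]
    exact Subgroup.mul_mem _ (Subgroup.zpow_mem _ hy n) hw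
  have hcen : Subgroup.center ↥(Subgroup.centralizer ({F.y} : Set G)) = q.ker := by
    ext x
    constructor
    · intro hx
      have hqx : q x ∈ Subgroup.center H := Subgroup.mem_center_iff.2 fun h => by
        obtain ⟨w, rfl⟩ := hsurj h
        rw [← map_mul, ← map_mul, Subgroup.mem_center_iff.1 hx w]
      rcases IsSimpleGroup.eq_bot_or_eq_top_of_normal (Subgroup.center H) inferInstance with h | h
      · rw [h, Subgroup.mem_bot] at hqx; exact hqx
      · exfalso
        have h1 : commutator H ≤ ⊥ := by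
          rw [commutator_def, Subgroup.commutator_le]
          intro a _ b _
          exact commutatorElement_eq_one_iff_mul_comm.2
            (Subgroup.mem_center_iff.1 (h ▸ Subgroup.mem_top b : b ∈ Subgroup.center H) a)
        rw [hnc] at h1
        exact bot_ne_top (le_antisymm bot_le h1)
    · intro hx
      obtain ⟨n, rfl⟩ := hk x hx
      refine Subgroup.zpow_mem _ (Subgroup.mem_center_iff.2 fun w => Subtype.ext ?_) n
      rw [hyNdef]
      exact Subgroup.mem_centralizer_singleton_iff.1 w.2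
  refine ⟨Group.isPerfect_def.2 hperf, ?_⟩
  let e' := (QuotientGroup.quotientMulEquivOfEq hcen).trans (QuotientGroup.quotientKerEquivOfSurjective q hsurj)
  haveI : Nontrivial (↥(Subgroup.centralizer ({F.y} : Set G)) ⧸ Subgroup.center _) :=
    e'.toEquiv.nontrivial
  exact MulEquiv.isSimpleGroup e'

end

/-- The centralizer has index two in the normalizer. -/
theorem relIndex_two (F : Frame S z) :
    (Subgroup.centralizer ((Subgroup.zpowers F.y : Subgroup G) : Set G)).relIndex
      (Subgroup.normalizer ((Subgroup.zpowers F.y : Subgroup G) : Set G)) = 2 := by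
  obtain ⟨c, -, hc⟩ := F.invert_y
  have hyne : F.y⁻¹ ≠ F.y := fun h => by
    have h2 : F.y * F.y = 1 := by nth_rewrite 1 [← h]; exact inv_mul_cancel _
    have := F.cube
    rw [pow_succ, pow_two, h2, one_mul] at this
    exact F.y_ne this
  have hcN : c ∈ Subgroup.normalizer ((Subgroup.zpowers F.y : Subgroup G) : Set G) := by
    refine Subgroup.mem_normalizer_iff.2 fun x => ?_
    constructor
    · intro hx
      obtain ⟨n, rfl⟩ := Subgroup.mem_zpowers_iff.1 hx
      rw [← conj_zpow, hc]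
      exact Subgroup.zpow_mem _ (Subgroup.inv_mem _ (Subgroup.mem_zpowers _)) _
    · intro hx
      obtain ⟨n, hn⟩ := Subgroup.mem_zpowers_iff.1 hx
      have : x = (c⁻¹ * F.y * c) ^ n := by
        rw [show c⁻¹ * F.y * c = c⁻¹ * F.y * c⁻¹⁻¹ by group, conj_zpow, hn]; group
      rw [this, show c⁻¹ * F.y * c = F.y⁻¹ by rw [← inv_inv F.y]; nth_rewrite 1 [← hc]; group]
      exact Subgroup.zpow_mem _ (Subgroup.inv_mem _ (Subgroup.mem_zpowers _)) _
  have hcy : ∀ x, x ∈ Subgroup.centralizer ((Subgroup.zpowers F.y : Subgroup G) : Set G) ↔ x * F.y * x⁻¹ = F.y := by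
    intro x
    rw [Subgroup.mem_centralizer_iff]
    constructor
    · intro h
      rw [← h F.y (Subgroup.mem_zpowers _), mul_inv_cancel_right]
    · intro h t ht
      obtain ⟨n, rfl⟩ := Subgroup.mem_zpowers_iff.1 ht
      exact (((conj_eq_iff_commute.1 h).symm).zpow_left n).eq
  rw [Subgroup.relIndex, Subgroup.index_eq_two_iff]
  refine ⟨⟨c, hcN⟩, fun b => ?_⟩
  rw [Subgroup.mem_subgroupOf, Subgroup.mem_subgroupOf, hcy, hcy, Subgroup.coe_mul]
  have hb : (b : G) * F.y * (b : G)⁻¹ ∈ Subgroup.zpowers F.y :=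
    (Subgroup.mem_normalizer_iff.1 b.2 F.y).1 (Subgroup.mem_zpowers _)
  obtain ⟨n, hn⟩ := Subgroup.mem_zpowers_iff.1 hb
  have h3 : F.y ^ (3 : ℤ) = 1 := (zpow_natCast F.y 3).trans F.cube
  rw [← Int.mul_ediv_add_emod n 3, zpow_add, zpow_mul, h3, one_zpow, one_mul] at hn
  have hne1 : (b : G) * F.y * (b : G)⁻¹ ≠ 1 := fun h => F.y_ne (conj_eq_one_iff.1 h)
  have hbc : (b : G) * c * F.y * ((b : G) * c)⁻¹ = ((b : G) * F.y * (b : G)⁻¹)⁻¹ := by
    rw [show (b : G) * c * F.y * ((b : G) * c)⁻¹ = (b : G) * (c * F.y * c⁻¹) * (b : G)⁻¹ by group, hc]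
    group
  rw [hbc, ← hn]
  rcases (by omega : n % 3 = 0 ∨ n % 3 = 1 ∨ n % 3 = 2) with h | h | h <;> rw [h] at hn ⊢
  · exact absurd (by rw [← hn, zpow_zero]) hne1
  · rw [zpow_one]
    exact Or.inr ⟨rfl, fun h => hyne h⟩
  · rw [show F.y ^ (2 : ℤ) = F.y ^ 2 from zpow_natCast F.y 2] at hn ⊢
    have h2 : (F.y ^ 2)⁻¹ = F.y := inv_eq_of_mul_eq_one_right (by rw [← pow_succ, F.cube])
    rw [h2]
    refine Or.inl ⟨rfl, fun h' => hyne ?_⟩
    exact (inv_eq_iff_eq_inv.2 h2.symm).trans h'

end Frame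

end CfsgLib.SuzThree
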