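import Cfsg.Agent.Lib.SuzThree.Quot
import Cfsg.Agent.Lib.U43Type.Setup
import Cfsg.Agent.Lib.Transfer.Quaternion

/-!
The two factors `SL(2, 3)` inside the centralizer of the involution and the element of order three.
-/

set_option autoImplicit false
set_option linter.style.haveILetI false
set_option maxRecDepth 10000
set_option synthInstance.maxSize 20000
set_option synthInstance.maxHeartbeats 400000
set_option maxHeartbeats 400000

namespace CfsgLib.SuzThree

open CfsgLib.SuzType CfsgLib.Classical.Quad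
open CfsgLib.U43Type (SL23)

universe u

variable {G : Type u} [Group G]

/-- A plane with its rotation. -/
structure Plane (R : Orth Q6) (pa pb : V6) : Prop where
  q_a : q6 pa = 1
  q_b : q6 pb = 1
  B : B6 pa pb = 1
  R_a : R.1 pa = pb
  R_b : R.1 pb = pa + pb
  fix_a : rot a1 b1 pa = pa
  fix_b : rot a1 b1 pb = pb
  cube : R ^ 3 = 1

theorem plane_two : Plane R2 a2 b2 :=
  ⟨one_a2.1, one_a2.2.1, one_a2.2.2, by rw [R2_apply]; decide, by rw [R2_apply]; decide, by decide, by decide,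
    rot_facts.2.1⟩

theorem plane_three : Plane R3 a3 b3 :=
  ⟨one_a3.1, one_a3.2.1, one_a3.2.2, by rw [R3_apply]; decide, by rw [R3_apply]; decide, by decide, by decide,
    rot_facts.2.2.1⟩

/-- A vector of the plane. -/
def InPlane (pa pb v : V6) : Prop := v = 0 ∨ v = pa ∨ v = pb ∨ v = pa + pb

instance (pa pb v : V6) : Decidable (InPlane pa pb v) := by unfold InPlane; infer_instance

theorem Plane.ne {R : Orth Q6} {pa pb : V6} (P : Plane R pa pb) :
    pa ≠ 0 ∧ pb ≠ 0 ∧ pa ≠ pb ∧ pa + pb ≠ 0 ∧ pa + pb ≠ pa ∧ pa + pb ≠ pb := by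
  have h0 : ∀ x : V6, B6 0 x = 0 ∧ B6 x 0 = 0 ∧ B6 x x = 0 := by decide
  have ha : pa ≠ 0 := fun h => by have := P.B; rw [h, (h0 _).1] at this; exact zero_ne_one this
  have hb : pb ≠ 0 := fun h => by have := P.B; rw [h, (h0 _).2.1] at this; exact zero_ne_one this
  have hab : pa ≠ pb := fun h => by have := P.B; rw [h, (h0 _).2.2] at this; exact zero_ne_one this
  exact ⟨ha, hb, hab, fun h => hab (zadd_v6.1 h), fun h => hb (add_eq_left.1 h), fun h => ha (add_eq_right.1 h)⟩

theorem Plane.pow_inj {R : Orth Q6} {pa pb : V6} (P : Plane R pa pb) {j k : ℕ} (h : R ^ j = R ^ k) :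
    j % 3 = k % 3 := by
  obtain ⟨-, -, hab, -, hsa, hsb⟩ := P.ne
  rw [pow_eq_pow_mod j P.cube, pow_eq_pow_mod k P.cube] at h
  have e := congrArg (fun g : Orth Q6 => g.1 pa) h
  have hj : j % 3 = 0 ∨ j % 3 = 1 ∨ j % 3 = 2 := by omega
  have hk : k % 3 = 0 ∨ k % 3 = 1 ∨ k % 3 = 2 := by omega
  have f0 : (R ^ 0).1 pa = pa := by rw [pow_zero, one_apply]
  have f1 : (R ^ 1).1 pa = pb := by rw [pow_one, P.R_a]
  have f2 : (R ^ 2).1 pa = pa + pb := by rw [pow_two, mul_apply, P.R_a, P.R_b]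
  rcases hj with hj | hj | hj <;> rcases hk with hk | hk | hk <;>
    simp only [hj, hk, f0, f1, f2] at e ⊢ <;>
    first | rfl | exact absurd e hab | exact absurd e.symm hab | exact absurd e hsa | exact absurd e.symm hsa |
      exact absurd e hsb | exact absurd e.symm hsb

/-- The data of a factor. -/
structure Block {S : Sys G} {z : G} (F : Frame S z) (r : G) (R : Orth Q6) (pa pb : V6) where
  ψ : SL23 →* G
  inj : Function.Injective ψ
  mem : ∀ a, ψ a ∈ F.W
  neg : ψ SL23.neg = z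
  r_mem : ∃ a, ψ a = r
  acts : ∀ a, ∃ k : ℕ, Acts z (S.E z) F.π (ψ a) (R ^ k)
  of_plane : ∀ q ∈ S.E z, InPlane pa pb (F.π q) → ∃ a, ψ a = q
  plane_of : ∀ a, ψ a ∈ S.E z → InPlane pa pb (F.π (ψ a))
  gens : ∃ x ∈ S.E z, F.π x = pa ∧ ∀ a, ψ a ∈ Subgroup.closure ({x, r} : Set G)

namespace Frame

variable {S : Sys G} {z : G} (F : Frame S z)

theorem inPlane_add {pa pb v w : V6} (hv : InPlane pa pb v) (hw : InPlane pa pb w) : InPlane pa pb (v + w) := by
  have h2 : pa + (pa + pb) = pb ∧ pb + (pa + pb) = pa ∧ pb + pa = pa + pb ∧ pa + pb + pa = pb ∧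
      pa + pb + pb = pa := by
    refine ⟨?_, ?_, add_comm _ _, ?_, ?_⟩
    · rw [← add_assoc, v6_add_self, zero_add]
    · rw [add_comm pa pb, ← add_assoc, v6_add_self, zero_add]
    · rw [add_comm pa pb, add_assoc, v6_add_self, add_zero]
    · rw [add_assoc, v6_add_self, add_zero]
  rcases hv with rfl | rfl | rfl | rfl <;> rcases hw with rfl | rfl | rfl | rfl <;>
    simp only [InPlane, zero_add, add_zero, v6_add_self, h2.1, h2.2.1, h2.2.2.1, h2.2.2.2.1, h2.2.2.2.2] <;>
    simp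

theorem exists_block [Finite G] {r : G} {R : Orth Q6} {pa pb : V6} (P : Plane R pa pb) (hrW : r ∈ F.W)
    (hr : Acts z (S.E z) F.π r R) (r3 : r ^ 3 = 1) : Nonempty (Block F r R pa pb) := by
  classical
  obtain ⟨hpa, hpb, hpab, hs0, hsa, hsb⟩ := P.ne
  obtain ⟨hrz, hry⟩ := F.mem_W.1 hrW
  have M := F.M
  -- the quaternion generators
  obtain ⟨x, hxE, hxy, hxπ, hxr⟩ : ∃ x, x ∈ S.E z ∧ Commute F.y x ∧ F.π x = pa ∧
      r * (r * x * r⁻¹) * r⁻¹ = x * (r * x * r⁻¹) := by
    obtain ⟨x, hx, hxy, hxπ⟩ := F.exists_fixed P.fix_a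
    have hb := M.normal r hrz x hx
    have h2 := M.normal r hrz _ hb
    rcases M.eq_of_map h2 ((S.E z).mul_mem hx hb) (by
      rw [hr.2 _ hb, hr.2 x hx, hxπ, M.map_mul _ hx _ hb, hr.2 x hx, hxπ, P.R_a, P.R_b]) with e | e
    · exact ⟨x, hx, hxy, hxπ, e⟩
    · refine ⟨x * z, (S.E z).mul_mem hx M.mem, hxy.mul_right F.hy.1,
        by rw [M.map_mul _ hx _ M.mem, M.map_s, add_zero, hxπ], ?_⟩
      have hc : r * (x * z) * r⁻¹ = r * x * r⁻¹ * z := by
        rw [show r * (x * z) * r⁻¹ = r * x * r⁻¹ * (r * z * r⁻¹) by group, conj_eq_iff_commute.2 hrz]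
      rw [hc, show r * (r * x * r⁻¹ * z) * r⁻¹ = r * (r * x * r⁻¹) * r⁻¹ * (r * z * r⁻¹) by group,
        conj_eq_iff_commute.2 hrz, e]
      have hzc : Commute z (r * x * r⁻¹) := (M.le_cent _ hb).symm
      rw [show x * z * (r * x * r⁻¹ * z) = x * (z * (r * x * r⁻¹)) * z by group, hzc.eq]
      group
  obtain ⟨w, hw⟩ : ∃ w, r * x * r⁻¹ = w := ⟨_, rfl⟩
  rw [hw] at hxr
  have hwE : w ∈ S.E z := hw ▸ M.normal r hrz x hxE
  have hwπ : F.π w = pb := by rw [← hw, hr.2 x hxE, hxπ, P.R_a]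
  have hwy : Commute F.y w := hw ▸ (hry.symm.mul_right hxy).mul_right hry.symm.inv_right
  have hxx : x * x = z := by rw [M.square x hxE, hxπ, P.q_a, pw_one]
  have hww : w * w = z := by rw [M.square w hwE, hwπ, P.q_b, pw_one]
  have hx4 : x ^ 4 = 1 := M.pow_four hxE
  have hwx : w * x * w⁻¹ = x⁻¹ := by
    rw [M.conj_eq hwE hxE, hwπ, hxπ, B6_comm, P.B, pw_one]
    refine eq_inv_of_mul_eq_one_left ?_
    rw [mul_assoc, (M.le_cent x hxE).symm.eq, ← mul_assoc, hxx, M.sq_one]
  let H : Subgroup G := Subgroup.closure ({x, r} : Set G)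
  have hxH : x ∈ H := Subgroup.subset_closure (by simp)
  have hrH : r ∈ H := Subgroup.subset_closure (by simp)
  have hwH : w ∈ H := hw ▸ H.mul_mem (H.mul_mem hrH hxH) (H.inv_mem hrH)
  have hzH : z ∈ H := hxx ▸ H.mul_mem hxH hxH
  have hactH : ∀ h ∈ H, (Commute h z ∧ Commute h F.y) ∧ ∃ k : ℕ, Acts z (S.E z) F.π h (R ^ k) := by
    intro h hh
    induction hh using Subgroup.closure_induction with
    | mem s hs =>
      rcases hs with rfl | rfl
      · exact ⟨⟨M.le_cent s hxE, hxy.symm⟩, 0, by rw [pow_zero]; exact M.acts_mem hxE⟩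
      · exact ⟨⟨hrz, hry⟩, 1, by rw [pow_one]; exact hr⟩
    | one => exact ⟨⟨Commute.one_left z, Commute.one_left F.y⟩, 0, by rw [pow_zero]; exact M.acts_mem (S.E z).one_mem⟩
    | mul a b _ _ ha hb =>
      obtain ⟨k, hk⟩ := ha.2
      obtain ⟨l, hl⟩ := hb.2
      exact ⟨⟨ha.1.1.mul_left hb.1.1, ha.1.2.mul_left hb.1.2⟩, k + l, by rw [pow_add]; exact M.acts_mul hk hl⟩
    | inv a _ ha =>
      obtain ⟨k, hk⟩ := ha.2
      refine ⟨⟨ha.1.1.inv_left, ha.1.2.inv_left⟩, 2 * k, ?_⟩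
      have h1 : R ^ (2 * k) = (R ^ k)⁻¹ := by
        refine eq_inv_of_mul_eq_one_left ?_
        rw [← pow_add, show 2 * k + k = 3 * k by omega, pow_mul, P.cube, one_pow]
      rw [h1]; exact M.acts_inv hk
  let el : Fin 4 → G := ![1, x, w, x * w]
  let ev : Fin 4 → V6 := ![0, pa, pb, pa + pb]
  have helE : ∀ i, el i ∈ S.E z ∧ el i ∈ H ∧ F.π (el i) = ev i := by
    intro i
    fin_cases i
    · exact ⟨(S.E z).one_mem, H.one_mem, M.map_one⟩
    · exact ⟨hxE, hxH, hxπ⟩
    · exact ⟨hwE, hwH, hwπ⟩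
    · exact ⟨(S.E z).mul_mem hxE hwE, H.mul_mem hxH hwH, by
        show F.π (x * w) = pa + pb
        rw [M.map_mul _ hxE _ hwE, hxπ, hwπ]⟩
  have hev : Function.Injective ev := by
    intro i j h
    fin_cases i <;> fin_cases j <;>
      first | rfl | exact absurd h hpa | exact absurd h.symm hpa | exact absurd h hpb | exact absurd h.symm hpb |
        exact absurd h hpab | exact absurd h.symm hpab | exact absurd h hs0 | exact absurd h.symm hs0 |
        exact absurd h hsa | exact absurd h.symm hsa | exact absurd h hsb | exact absurd h.symm hsb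
  have hcard : 24 ≤ Nat.card H := by
    let ι : Fin 4 × ZMod 2 × Fin 3 → H := fun t => ⟨el t.1 * pw z t.2.1 * r ^ t.2.2.val,
      H.mul_mem (H.mul_mem (helE t.1).2.1 (by rcases zcases t.2.1 with e | e <;> rw [e] <;>
        simp only [pw_zero, pw_one] <;> first | exact H.one_mem | exact hzH)) (H.pow_mem hrH _)⟩
    have hι : Function.Injective ι := by
      rintro ⟨i, c, k⟩ ⟨i', c', k'⟩ h
      have h' : el i * pw z c * r ^ k.val = el i' * pw z c' * r ^ k'.val := congrArg Subtype.val h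
      have hm : ∀ i c, el i * pw z c ∈ S.E z := fun i c => (S.E z).mul_mem (helE i).1 (M.pw_mem c)
      have hk : R ^ k.val = R ^ k'.val := by
        have a := M.acts_mul (M.acts_mem (hm i c)) (M.acts_pow hr k.val)
        have b := M.acts_mul (M.acts_mem (hm i' c')) (M.acts_pow hr k'.val)
        rw [h'] at a
        have := M.acts_unique a b
        rwa [one_mul, one_mul] at this
      obtain rfl : k = k' := Fin.ext (by have := P.pow_inj hk; omega)
      have h'' := mul_right_cancel h'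
      have hπ := congrArg F.π h''
      rw [M.map_mul _ (helE i).1 _ (M.pw_mem c), M.map_mul _ (helE i').1 _ (M.pw_mem c'), M.map_pw, M.map_pw,
        add_zero, add_zero, (helE i).2.2, (helE i').2.2] at hπ
      obtain rfl := hev hπ
      rw [pw_inj M.ne_one (mul_left_cancel h'')]
    calc 24 = Nat.card (Fin 4 × ZMod 2 × Fin 3) := by simp
      _ ≤ Nat.card H := Nat.card_le_card_of_injective ι hι
  obtain ⟨e⟩ := CfsgLib.Transfer.nonempty_mulEquiv_sl_two_three (M := ↥H) (a := ⟨x, hxH⟩) (y := ⟨w, hwH⟩)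
    (g := ⟨r, hrH⟩) (Subtype.ext hx4) (Subtype.ext (by show w ^ 2 = x ^ 2; rw [pow_two, pow_two, hxx, hww]))
    (Subtype.ext hwx) (Subtype.ext hw) (Subtype.ext hxr) (Subtype.ext r3)
    (by
      rw [eq_top_iff]
      intro h _
      have hh := h.2
      have : H ≤ (Subgroup.closure ({⟨x, hxH⟩, ⟨r, hrH⟩} : Set ↥H)).map H.subtype := by
        rw [MonoidHom.map_closure, Set.image_pair]; exact le_rfl
      obtain ⟨h', hh', e⟩ := this hh
      rwa [show h = h' from Subtype.ext e.symm])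
    hcard
  let ψ : SL23 →* G := H.subtype.comp e.symm.toMonoidHom
  have hinj : Function.Injective ψ := H.subtype_injective.comp e.symm.injective
  have hsurj : ∀ h ∈ H, ∃ a, ψ a = h := fun h hh => ⟨e ⟨h, hh⟩, by simp [ψ]⟩
  refine ⟨⟨ψ, hinj, fun a => F.mem_W.2 (hactH _ (e.symm a).2).1, ?_, hsurj r hrH,
    fun a => (hactH _ (e.symm a).2).2, ?_, ?_, ⟨x, hxE, hxπ, fun a => (e.symm a).2⟩⟩⟩
  · obtain ⟨a, ha⟩ := hsurj z hzH
    have h2 : a * a = 1 := hinj (by rw [map_mul, ha, map_one, M.sq_one])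
    rcases CfsgLib.U43Type.SL23.unique_invol a h2 with rfl | rfl
    · exact absurd (by rw [← ha, map_one]) M.ne_one
    · exact ha
  · intro q hq hv
    obtain ⟨i, hi⟩ : ∃ i, ev i = F.π q := by
      rcases hv with h | h | h | h
      exacts [⟨0, h.symm⟩, ⟨1, h.symm⟩, ⟨2, h.symm⟩, ⟨3, h.symm⟩]
    refine hsurj q ?_
    rcases M.eq_of_map hq (helE i).1 ((helE i).2.2.trans hi).symm with e | e <;> rw [e]
    · exact (helE i).2.1
    · exact H.mul_mem (helE i).2.1 hzH
  · have key : ∀ h ∈ H, ∃ (k : ℕ) (q : G), q ∈ S.E z ∧ InPlane pa pb (F.π q) ∧ h = q * r ^ k := by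
      have hconj : ∀ (k : ℕ) (q : G), q ∈ S.E z → InPlane pa pb (F.π q) →
          r ^ k * q * (r ^ k)⁻¹ ∈ S.E z ∧ InPlane pa pb (F.π (r ^ k * q * (r ^ k)⁻¹)) := by
        intro k
        induction k with
        | zero => intro q hq hv; simpa using And.intro hq hv
        | succ k ih =>
          intro q hq hv
          obtain ⟨h1, h2⟩ := ih q hq hv
          rw [pow_succ', show r * r ^ k * q * (r * r ^ k)⁻¹ = r * (r ^ k * q * (r ^ k)⁻¹) * r⁻¹ by group]
          refine ⟨M.normal r hrz _ h1, ?_⟩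
          rw [hr.2 _ h1]
          rcases h2 with e | e | e | e <;> rw [e]
          · exact Or.inl (map_zero R.1)
          · exact Or.inr (Or.inr (Or.inl P.R_a))
          · exact Or.inr (Or.inr (Or.inr P.R_b))
          · refine Or.inr (Or.inl ?_)
            rw [map_add, P.R_a, P.R_b, add_comm pa pb, ← add_assoc, v6_add_self, zero_add]
      intro h hh
      induction hh using Subgroup.closure_induction with
      | mem s hs =>
        rcases hs with rfl | rfl
        · exact ⟨0, s, hxE, Or.inr (Or.inl hxπ), by rw [pow_zero, mul_one]⟩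
        · exact ⟨1, 1, (S.E z).one_mem, Or.inl M.map_one, by rw [pow_one, one_mul]⟩
      | one => exact ⟨0, 1, (S.E z).one_mem, Or.inl M.map_one, by rw [pow_zero, mul_one]⟩
      | mul a b _ _ ha hb =>
        obtain ⟨k, q, hq, hv, rfl⟩ := ha
        obtain ⟨l, q', hq', hv', rfl⟩ := hb
        obtain ⟨h1, h2⟩ := hconj k q' hq' hv'
        refine ⟨k + l, q * (r ^ k * q' * (r ^ k)⁻¹), (S.E z).mul_mem hq h1, ?_, by rw [pow_add]; group⟩
        rw [M.map_mul _ hq _ h1]; exact inPlane_add hv h2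
      | inv a _ ha =>
        obtain ⟨k, q, hq, hv, rfl⟩ := ha
        obtain ⟨h1, h2⟩ := hconj (2 * k) q⁻¹ ((S.E z).inv_mem hq) (by rwa [M.map_inv hq])
        refine ⟨2 * k, r ^ (2 * k) * q⁻¹ * (r ^ (2 * k))⁻¹, h1, h2, ?_⟩
        have e : r ^ (2 * k) * r ^ k = 1 := by rw [← pow_add, show 2 * k + k = 3 * k by omega, pow_mul, r3, one_pow]
        rw [inv_mul_cancel_right, mul_inv_rev, (eq_inv_of_mul_eq_one_left e).symm]
    intro a ha
    obtain ⟨k, q, hq, hv, e'⟩ := key _ (e.symm a).2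
    have ha' : ψ a = q * r ^ k := e'
    rw [ha'] at ha ⊢
    have hrk : r ^ k ∈ S.E z := by
      have := (S.E z).mul_mem ((S.E z).inv_mem hq) ha
      rwa [inv_mul_cancel_left] at this
    rw [M.eq_one_of_cube hrk (by rw [← pow_mul, mul_comm, pow_mul, r3, one_pow]), mul_one]
    exact hv

end Frame

end CfsgLib.SuzThree
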