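import Cfsg.Agent.Lib.SuzThree.Plane
import Cfsg.Agent.Lib.SuzType.Pair

/-!
Elements of order three centralizing the involution: conjugation and lifting.
-/

set_option autoImplicit false
set_option linter.style.haveILetI false
set_option maxRecDepth 10000
set_option maxHeartbeats 200000

namespace CfsgLib.SuzType

open CfsgLib.Classical.Quad

universe u

variable {G : Type u} [Group G]

namespace Model

variable {s : G} {E : Subgroup G} {π : G → V6} (M : Model s E π)
include M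

theorem s_ne_cube {a : G} (ha : a * a * a = 1) : a ≠ s := fun e => by
  rw [e, M.sq_one, one_mul] at ha
  exact M.ne_one ha

/-- An element with trivial cube in `E` is trivial. -/
theorem eq_one_of_cube {a : G} (ha : a ∈ E) (h3 : a ^ 3 = 1) : a = 1 := by
  have h4 := M.pow_four ha
  rwa [pow_succ, h3, one_mul] at h4

theorem fix_of_commute {y : G} {g : Orth Q6} (hy : Acts s E π y g) {q : G} (hq : q ∈ E) (hc : Commute y q) :
    g.1 (π q) = π q := by
  rw [← hy.2 q hq, conj_eq_iff_commute.2 hc]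

theorem commute_of_fix {y : G} {g : Orth Q6} (hy : Acts s E π y g) (h3 : y ^ 3 = 1) {q : G} (hq : q ∈ E)
    (hfix : g.1 (π q) = π q) : Commute y q := by
  rcases M.eq_of_map (M.normal y hy.1 q hq) hq (by rw [hy.2 q hq, hfix]) with e | e
  · exact conj_eq_iff_commute.1 e
  · exfalso
    have e2 : y * y * q * (y * y)⁻¹ = q := by
      rw [show y * y * q * (y * y)⁻¹ = y * (y * q * y⁻¹) * y⁻¹ by group, e,
        show y * (q * s) * y⁻¹ = y * q * y⁻¹ * (y * s * y⁻¹) by group, e, conj_eq_iff_commute.2 hy.1,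
        mul_assoc, M.sq_one, mul_one]
    have e3 : y * y * y * q * (y * y * y)⁻¹ = q * s := by
      rw [show y * y * y * q * (y * y * y)⁻¹ = y * (y * y * q * (y * y)⁻¹) * y⁻¹ by group, e2, e]
    rw [show y * y * y = y ^ 3 by rw [pow_succ, pow_two], h3, one_mul, inv_one, mul_one, left_eq_mul] at e3
    exact M.ne_one e3

/-- Elements of order three with the same action are conjugate under `E`. -/
theorem exists_conj3 {y y' : G} {g : Orth Q6} (hy : Acts s E π y g) (hy' : Acts s E π y' g)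
    (h3 : y ^ 3 = 1) (h3' : y' ^ 3 = 1) :
    ∃ f ∈ E, f * y * f⁻¹ = y' ∧ π f = g.1 (π (y' * y⁻¹)) := by
  have he : y' * y⁻¹ ∈ E := M.faith _ (by
    have := M.acts_mul hy' (M.acts_inv hy)
    rwa [mul_inv_cancel] at this)
  obtain ⟨e, hedef⟩ : ∃ e, y' * y⁻¹ = e := ⟨_, rfl⟩
  rw [hedef] at he ⊢
  have hy'e : y' = e * y := by rw [← hedef]; group
  have hsum : π e + g.1 (π e) + g.1 (g.1 (π e)) = 0 := by
    have hyy := M.acts_mul hy hy
    have h1 := M.normal y hy.1 e he
    have h2 := M.normal (y * y) hyy.1 e he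
    have hprod : e * (y * e * y⁻¹) * (y * y * e * (y * y)⁻¹) = 1 := by
      rw [show e * (y * e * y⁻¹) * (y * y * e * (y * y)⁻¹) =
        e * y * (e * y) * (e * y) * (y ^ 3)⁻¹ by rw [pow_succ, pow_two]; group, h3, inv_one, mul_one, ← hy'e]
      rw [← pow_two, ← pow_succ, h3']
    have := congrArg π hprod
    rwa [M.map_mul _ (E.mul_mem he h1) _ h2, M.map_mul _ he _ h1, hy.2 e he, hyy.2 e he, mul_apply,
      M.map_one] at this
  obtain ⟨f, hf, hfπ⟩ := M.surj (g.1 (π e))
  have h1 := M.normal y hy.1 _ (E.inv_mem hf)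
  have hmem := E.mul_mem hf h1
  have hπ : π (f * (y * f⁻¹ * y⁻¹)) = π e := by
    rw [M.map_mul _ hf _ h1, hy.2 _ (E.inv_mem hf), M.map_inv hf, hfπ]
    rw [add_assoc] at hsum
    exact ((v6_add_eq hsum).trans (zero_add _)).symm
  refine ⟨f, hf, ?_, hfπ⟩
  rcases M.eq_of_map hmem he hπ with h | h
  · rw [hy'e, ← h]; group
  · exfalso
    have hfy : f * y * f⁻¹ = y' * s := by
      rw [show f * y * f⁻¹ = f * (y * f⁻¹ * y⁻¹) * y by group, h, hy'e, mul_assoc, ← hy.1.eq, ← mul_assoc]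
    have hc : Commute y' s := hy'e ▸ (M.le_cent e he).mul_left hy.1
    have : (y' * s) ^ 3 = 1 := by rw [← hfy, conj_pow, h3, mul_one, mul_inv_cancel]
    rw [hc.mul_pow, h3', one_mul, pow_succ, pow_two, M.sq_one, one_mul] at this
    exact M.ne_one this

/-- A fourth power has the same action and trivial cube. -/
theorem cube_fix {c : G} {g : Orth Q6} (hc : Acts s E π c g) (hg : g ^ 3 = 1) :
    Acts s E π (c ^ 4) g ∧ (c ^ 4) ^ 3 = 1 := by
  have h3 : c ^ 3 ∈ E := M.faith _ (by rw [← hg]; exact M.acts_pow hc 3)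
  refine ⟨?_, by rw [← pow_mul, show 4 * 3 = 3 * 4 from rfl, pow_mul]; exact M.pow_four h3⟩
  have h := M.acts_pow hc 4
  rwa [pow_succ g, hg, one_mul] at h

/-- A lift centralizing an element of order three. -/
theorem lift_comm {y : G} {g h : Orth Q6} (hy : Acts s E π y g) (h3 : y ^ 3 = 1) (hh : h ∈ Ev)
    (hc : Commute h g) : ∃ c, Acts s E π c h ∧ Commute c y := by
  obtain ⟨c, hca⟩ := M.lift h hh
  have h1 : Acts s E π (c * y * c⁻¹) g := by
    have := M.acts_mul (M.acts_mul hca hy) (M.acts_inv hca)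
    rwa [hc.eq, mul_inv_cancel_right] at this
  obtain ⟨f, hf, hfy, -⟩ := M.exists_conj3 hy h1 h3 (by rw [conj_pow, h3, mul_one, mul_inv_cancel])
  refine ⟨f⁻¹ * c, ?_, ?_⟩
  · simpa using M.acts_mul (M.acts_inv (M.acts_mem hf)) hca
  · refine conj_eq_iff_commute.1 ?_
    rw [show f⁻¹ * c * y * (f⁻¹ * c)⁻¹ = f⁻¹ * (c * y * c⁻¹) * f by group, ← hfy]
    group

/-- Conjugation to a prescribed element, keeping an element of order three fixed. -/
theorem conj_comm {y r r' : G} {g h : Orth Q6} (hy : Acts s E π y g) (h3 : y ^ 3 = 1)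
    (hr : Acts s E π r h) (hr' : Acts s E π r' h) (r3 : r ^ 3 = 1) (r3' : r' ^ 3 = 1)
    (hry : Commute r y) (hry' : Commute r' y) (hgh : Commute g h) :
    ∃ f ∈ E, f * r * f⁻¹ = r' ∧ Commute y f := by
  obtain ⟨f, hf, hfy, hfπ⟩ := M.exists_conj3 hr hr' r3 r3'
  have he : r' * r⁻¹ ∈ E := M.faith _ (by
    have := M.acts_mul hr' (M.acts_inv hr)
    rwa [mul_inv_cancel] at this)
  have hfix := M.fix_of_commute hy he (hry'.symm.mul_right hry.symm.inv_right)
  refine ⟨f, hf, hfy, M.commute_of_fix hy h3 hf ?_⟩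
  rw [hfπ]
  have := congrArg (fun k : Orth Q6 => k.1 (π (r' * r⁻¹))) hgh.eq
  simp only [mul_apply] at this
  rw [this, hfix]

/-- A lift centralizing two commuting elements of order three. -/
theorem lift_comm₂ {y r : G} {g h k : Orth Q6} (hy : Acts s E π y g) (h3 : y ^ 3 = 1)
    (hr : Acts s E π r h) (r3 : r ^ 3 = 1) (hry : Commute r y) (hgh : Commute g h) (hk : k ∈ Ev)
    (hkg : Commute k g) (hkh : Commute k h) : ∃ c, Acts s E π c k ∧ Commute c y ∧ Commute c r := by
  obtain ⟨c, hca, hcy⟩ := M.lift_comm hy h3 hk hkg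
  have h1 : Acts s E π (c * r * c⁻¹) h := by
    have := M.acts_mul (M.acts_mul hca hr) (M.acts_inv hca)
    rwa [hkh.eq, mul_inv_cancel_right] at this
  obtain ⟨f, hf, hfr, hfy⟩ := M.conj_comm hy h3 hr h1 r3 (by rw [conj_pow, r3, mul_one, mul_inv_cancel]) hry
    ((hcy.mul_left hry).mul_left hcy.inv_left) hgh
  refine ⟨f⁻¹ * c, ?_, hfy.symm.inv_left.mul_left hcy, conj_eq_iff_commute.1 ?_⟩
  · simpa using M.acts_mul (M.acts_inv (M.acts_mem hf)) hca
  · rw [show f⁻¹ * c * r * (f⁻¹ * c)⁻¹ = f⁻¹ * (c * r * c⁻¹) * f by group, ← hfr]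
    group

end Model

end CfsgLib.SuzType
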