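import Cfsg.Agent.Lib.SuzThree.Cent

/-!
Three commuting elements of order three rotating three anisotropic planes.
-/

set_option autoImplicit false
set_option linter.style.haveILetI false
set_option maxRecDepth 10000
set_option maxHeartbeats 200000

namespace CfsgLib.SuzThree

open CfsgLib.SuzType CfsgLib.Classical.Quad

theorem rot_facts : R1 ^ 3 = 1 ∧ R2 ^ 3 = 1 ∧ R3 ^ 3 = 1 ∧ Commute R1 R2 ∧ Commute R1 R3 ∧ Commute R2 R3 := by
  refine ⟨?_, ?_, ?_, ?_, ?_, ?_⟩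
  · refine ext_nine fun n => ?_
    simp only [pow_succ, pow_zero, one_mul, mul_apply, R1_nine, one_apply]
    exact congrArg nine ((by decide +kernel : ∀ n, tpl 0 1 (tpl 0 1 (tpl 0 1 n)) = n) n)
  · refine ext_nine fun n => ?_
    simp only [pow_succ, pow_zero, one_mul, mul_apply, R2_nine, one_apply]
    exact congrArg nine ((by decide +kernel : ∀ n, tpl 1 1 (tpl 1 1 (tpl 1 1 n)) = n) n)
  · refine ext_nine fun n => ?_
    simp only [pow_succ, pow_zero, one_mul, mul_apply, R3_nine, one_apply]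
    exact congrArg nine ((by decide +kernel : ∀ n, tpl 2 1 (tpl 2 1 (tpl 2 1 n)) = n) n)
  · refine ext_nine fun n => ?_
    simp only [mul_apply, R1_nine, R2_nine]
    exact congrArg nine ((by decide +kernel : ∀ n, tpl 0 1 (tpl 1 1 n) = tpl 1 1 (tpl 0 1 n)) n)
  · refine ext_nine fun n => ?_
    simp only [mul_apply, R1_nine, R3_nine]
    exact congrArg nine ((by decide +kernel : ∀ n, tpl 0 1 (tpl 2 1 n) = tpl 2 1 (tpl 0 1 n)) n)
  · refine ext_nine fun n => ?_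
    simp only [mul_apply, R2_nine, R3_nine]
    exact congrArg nine ((by decide +kernel : ∀ n, tpl 1 1 (tpl 2 1 n) = tpl 2 1 (tpl 1 1 n)) n)

/-- The second rotation is conjugate to the first. -/
theorem R2_conj : ∃ k ∈ Ev, k * R2 * k⁻¹ = R1 := by
  have e : R2.1 a2 = b2 := by rw [R2_apply]; decide
  refine conj_R1 one_a2.1 (by rw [e]; decide) (by rw [e, R2_apply]; decide) ?_
  rw [e]
  intro w h1 h2
  rw [R2_apply]
  exact (by decide +kernel : ∀ w, B6 w a2 = 0 → B6 w b2 = 0 → rot a2 b2 w = w) w h1 h2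

/-- An element of the commutator subgroup centralizing the first rotation and moving the third to the
second or its inverse. -/
theorem R3_conj : ∃ k ∈ Ev, Commute k R1 ∧ (k * R3 * k⁻¹ = R2 ∨ k * R3 * k⁻¹ = R2⁻¹) := by
  have h1 : Commute SW R1 := by
    refine ext_nine fun n => ?_
    rw [mul_apply, mul_apply, R1_apply, R1_apply, SW_apply, SW_apply]
    exact (by decide +kernel : ∀ n, swf (rot a1 b1 (nine n)) = rot a1 b1 (swf (nine n))) n
  have hSW : SW * R3 * SW⁻¹ = R2 := by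
    rw [mul_inv_eq_iff_eq_mul]
    refine ext_nine fun n => ?_
    rw [mul_apply, mul_apply, R3_apply, R2_apply, SW_apply, SW_apply]
    exact (by decide +kernel : ∀ n, swf (rot a3 b3 (nine n)) = rot a2 b2 (swf (nine n))) n
  by_cases h : SW ∈ Ev
  · exact ⟨SW, h, h1, Or.inl hSW⟩
  refine ⟨refl Q6 a2 * SW, ?_, refl_a2.2.mul_left h1, Or.inr ?_⟩
  · rw [Subgroup.mul_mem_iff_of_index_two index_Ev]; exact iff_of_false refl_a2.1 h
  · rw [show refl Q6 a2 * SW * R3 * (refl Q6 a2 * SW)⁻¹ = refl Q6 a2 * (SW * R3 * SW⁻¹) * (refl Q6 a2)⁻¹ by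
      group, hSW, eq_inv_iff_mul_eq_one, inv_eq_of_mul_eq_one_left (refl_mul_self a2)]
    refine ext_nine fun n => ?_
    simp only [mul_apply, refl6 one_a2.1, R2_apply, one_apply]
    exact (by decide +kernel : ∀ n, rf a2 (rot a2 b2 (rf a2 (rot a2 b2 (nine n)))) = nine n) n

theorem inv23_comm : Commute (refl Q6 a2 * refl Q6 a3) R1 := by
  refine ext_nine fun n => ?_
  simp only [mul_apply, refl6 one_a2.1, refl6 one_a3.1, R1_apply]
  exact (by decide +kernel : ∀ n,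
    rf a2 (rf a3 (rot a1 b1 (nine n))) = rot a1 b1 (rf a2 (rf a3 (nine n)))) n

theorem inv23_two : refl Q6 a2 * refl Q6 a3 * R2 * (refl Q6 a2 * refl Q6 a3)⁻¹ = R2⁻¹ := by
  rw [mul_inv_eq_iff_eq_mul, eq_inv_mul_iff_mul_eq]
  refine ext_nine fun n => ?_
  simp only [mul_apply, refl6 one_a2.1, refl6 one_a3.1, R2_apply]
  exact (by decide +kernel : ∀ n,
    rot a2 b2 (rf a2 (rf a3 (rot a2 b2 (nine n)))) = rf a2 (rf a3 (nine n))) n

theorem inv23_three : refl Q6 a2 * refl Q6 a3 * R3 * (refl Q6 a2 * refl Q6 a3)⁻¹ = R3⁻¹ := by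
  rw [mul_inv_eq_iff_eq_mul, eq_inv_mul_iff_mul_eq]
  refine ext_nine fun n => ?_
  simp only [mul_apply, refl6 one_a2.1, refl6 one_a3.1, R3_apply]
  exact (by decide +kernel : ∀ n,
    rot a3 b3 (rf a2 (rf a3 (rot a3 b3 (nine n)))) = rf a2 (rf a3 (nine n))) n

/-- Elements of the commutator subgroup inverting the first two rotations. -/
theorem inverters : (∃ k ∈ Ev, k * R1 * k⁻¹ = R1⁻¹) ∧
    (∃ k ∈ Ev, Commute k R1 ∧ k * R2 * k⁻¹ = R2⁻¹) ∧ (∃ k ∈ Ev, Commute k R1 ∧ k * R3 * k⁻¹ = R3⁻¹) := by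
  refine ⟨⟨_, rr_mem one_a1.1 one_a2.1, ?_⟩, ⟨_, rr_mem one_a2.1 one_a3.1, inv23_comm, inv23_two⟩,
    ⟨_, rr_mem one_a2.1 one_a3.1, inv23_comm, inv23_three⟩⟩
  rw [mul_inv_eq_iff_eq_mul, eq_inv_mul_iff_mul_eq]
  refine ext_nine fun n => ?_
  simp only [mul_apply, refl6 one_a1.1, refl6 one_a2.1, R1_apply]
  exact (by decide +kernel : ∀ n,
    rot a1 b1 (rf a1 (rf a2 (rot a1 b1 (nine n)))) = rf a1 (rf a2 (nine n))) n

universe u

variable {G : Type u} [Group G]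

/-- Three elements of order three at a member of the class. -/
structure Frame (S : Sys G) (z : G) where
  π : G → V6
  y : G
  y2 : G
  y3 : G
  Kz : S.K z
  M : Model z (S.E z) π
  hy : Acts z (S.E z) π y R1
  hy2 : Acts z (S.E z) π y2 R2
  hy3 : Acts z (S.E z) π y3 R3
  cube : y ^ 3 = 1
  cube2 : y2 ^ 3 = 1
  cube3 : y3 ^ 3 = 1
  c12 : Commute y2 y
  c13 : Commute y3 y
  c23 : Commute y3 y2

/-- Frames exist over every element acting as the first rotation. -/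
theorem exists_frame {S : Sys G} {z y : G} {π : G → V6} (Kz : S.K z) (M : Model z (S.E z) π)
    (hy : Acts z (S.E z) π y R1) (h3 : y ^ 3 = 1) : ∃ F : Frame S z, F.y = y := by
  obtain ⟨f1, f2, f3, g12, g13, g23⟩ := rot_facts
  obtain ⟨c, hc, hcy⟩ := M.lift_comm hy h3 R_mem.2.1 g12.symm
  obtain ⟨hy2, cube2⟩ := M.cube_fix hc f2
  obtain ⟨d, hd, hdy, hd2⟩ := M.lift_comm₂ hy h3 hy2 cube2 (hcy.pow_left 4) g12 R_mem.2.2 g13.symm g23.symm
  obtain ⟨hy3, cube3⟩ := M.cube_fix hd f3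
  exact ⟨⟨π, y, c ^ 4, d ^ 4, Kz, M, hy, hy2, hy3, h3, cube2, cube3, hcy.pow_left 4, hdy.pow_left 4,
    hd2.pow_left 4⟩, rfl⟩

namespace Frame

variable {S : Sys G} {z : G} (F : Frame S z)

theorem y_ne : F.y ≠ 1 := fun e => by
  have h := F.M.acts_unique (e ▸ F.hy) (F.M.acts_mem (S.E z).one_mem)
  have := congrArg (fun k : Orth Q6 => k.1 a1) h
  simp only [R1_apply, one_apply] at this
  exact absurd this (by decide)

theorem y_not_mem : F.y ∉ S.E z := fun h => F.y_ne (F.M.eq_one_of_cube h F.cube)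

/-- An element of the subgroup commutes with `y` exactly when its coordinates are fixed. -/
theorem comm_iff {q : G} (hq : q ∈ S.E z) : Commute F.y q ↔ rot a1 b1 (F.π q) = F.π q := by
  rw [← R1_apply]
  exact ⟨F.M.fix_of_commute F.hy hq, F.M.commute_of_fix F.hy F.cube hq⟩

theorem exists_fixed {v : V6} (hv : rot a1 b1 v = v) : ∃ q ∈ S.E z, Commute F.y q ∧ F.π q = v := by
  obtain ⟨q, hq, e⟩ := F.M.surj v
  exact ⟨q, hq, (F.comm_iff hq).2 (by rw [e, hv]), e⟩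

/-- An element of order three conjugate to `y` in the centralizer. -/
theorem exists_conj {r : G} {g : Orth Q6} (hr : Acts z (S.E z) F.π r g) (r3 : r ^ 3 = 1)
    (hk : ∃ k ∈ Ev, k * g * k⁻¹ = R1) : ∃ c, Commute c z ∧ c * r * c⁻¹ = F.y := by
  obtain ⟨k, hk, e⟩ := hk
  obtain ⟨c, hc⟩ := F.M.lift k hk
  have h1 : Acts z (S.E z) F.π (c * r * c⁻¹) R1 := e ▸ F.M.acts_mul (F.M.acts_mul hc hr) (F.M.acts_inv hc)
  obtain ⟨f, hf, hfy, -⟩ := F.M.exists_conj3 h1 F.hy (by rw [conj_pow, r3, mul_one, mul_inv_cancel]) F.cube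
  exact ⟨f * c, (F.M.le_cent f hf).mul_left hc.1, by rw [← hfy]; group⟩

/-- The second element is conjugate to the first. -/
theorem conj_y2 : ∃ c, Commute c z ∧ c * F.y2 * c⁻¹ = F.y := F.exists_conj F.hy2 F.cube2 R2_conj

/-- The first element is inverted in the centralizer. -/
theorem invert_y : ∃ c, Commute c z ∧ c * F.y * c⁻¹ = F.y⁻¹ := by
  obtain ⟨k, hk, e⟩ := inverters.1
  obtain ⟨c, hc⟩ := F.M.lift k hk
  have h1 : Acts z (S.E z) F.π (c * F.y * c⁻¹) R1⁻¹ :=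
    e ▸ F.M.acts_mul (F.M.acts_mul hc F.hy) (F.M.acts_inv hc)
  obtain ⟨f, hf, hfy, -⟩ := F.M.exists_conj3 h1 (F.M.acts_inv F.hy)
    (by rw [conj_pow, F.cube, mul_one, mul_inv_cancel]) (by rw [inv_pow, F.cube, inv_one])
  exact ⟨f * c, (F.M.le_cent f hf).mul_left hc.1, by rw [← hfy]; group⟩

theorem invert_aux {r : G} {R : Orth Q6} (hr : Acts z (S.E z) F.π r R) (r3 : r ^ 3 = 1) (hry : Commute r F.y)
    (hR : Commute R1 R) (hk : ∃ k ∈ Ev, Commute k R1 ∧ k * R * k⁻¹ = R⁻¹) :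
    ∃ c, Commute c z ∧ Commute c F.y ∧ c * r * c⁻¹ = r⁻¹ := by
  obtain ⟨k, hk, hk1, e⟩ := hk
  obtain ⟨c, hc, hcy⟩ := F.M.lift_comm F.hy F.cube hk hk1
  have h1 : Acts z (S.E z) F.π (c * r * c⁻¹) R⁻¹ :=
    e ▸ F.M.acts_mul (F.M.acts_mul hc hr) (F.M.acts_inv hc)
  obtain ⟨f, hf, hfr, hfy⟩ := F.M.conj_comm F.hy F.cube h1 (F.M.acts_inv hr)
    (by rw [conj_pow, r3, mul_one, mul_inv_cancel]) (by rw [inv_pow, r3, inv_one])
    ((hcy.mul_left hry).mul_left hcy.inv_left) hry.inv_left hR.inv_right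
  exact ⟨f * c, (F.M.le_cent f hf).mul_left hc.1, hfy.symm.mul_left hcy, by rw [← hfr]; group⟩

/-- The second and third elements are inverted in the centralizer of the first. -/
theorem inverts : (∃ c, Commute c z ∧ Commute c F.y ∧ c * F.y2 * c⁻¹ = F.y2⁻¹) ∧
    ∃ c, Commute c z ∧ Commute c F.y ∧ c * F.y3 * c⁻¹ = F.y3⁻¹ := by
  obtain ⟨-, -, -, g12, g13, -⟩ := rot_facts
  exact ⟨F.invert_aux F.hy2 F.cube2 F.c12 g12 inverters.2.1,
    F.invert_aux F.hy3 F.cube3 F.c13 g13 inverters.2.2⟩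

/-- The third element is conjugate to the second or its inverse by an element centralizing the first. -/
theorem conj_y3 : ∃ c, Commute c z ∧ Commute c F.y ∧ (c * F.y3 * c⁻¹ = F.y2 ∨ c * F.y3 * c⁻¹ = F.y2⁻¹) := by
  obtain ⟨-, -, -, g12, g13, -⟩ := rot_facts
  obtain ⟨k, hk, hk1, e⟩ := R3_conj
  obtain ⟨c, hc, hcy⟩ := F.M.lift_comm F.hy F.cube hk hk1
  have hcube : (c * F.y3 * c⁻¹) ^ 3 = 1 := by rw [conj_pow, F.cube3, mul_one, mul_inv_cancel]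
  have hcomm := (hcy.mul_left F.c13).mul_left hcy.inv_left
  have hact := F.M.acts_mul (F.M.acts_mul hc F.hy3) (F.M.acts_inv hc)
  rcases e with e | e <;> rw [e] at hact
  · obtain ⟨f, hf, hfr, hfy⟩ := F.M.conj_comm F.hy F.cube hact F.hy2 hcube F.cube2 hcomm F.c12 g12
    exact ⟨f * c, (F.M.le_cent f hf).mul_left hc.1, hfy.symm.mul_left hcy, Or.inl (by rw [← hfr]; group)⟩
  · obtain ⟨f, hf, hfr, hfy⟩ := F.M.conj_comm F.hy F.cube hact (F.M.acts_inv F.hy2) hcube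
      (by rw [inv_pow, F.cube2, inv_one]) hcomm F.c12.inv_left g12.inv_right
    exact ⟨f * c, (F.M.le_cent f hf).mul_left hc.1, hfy.symm.mul_left hcy, Or.inr (by rw [← hfr]; group)⟩

/-- The centralizer of `y` moves `z` inside the extraspecial subgroup. -/
theorem exists_move : ∃ g, Commute g F.y ∧ g * z * g⁻¹ ∈ S.E z ∧ g * z * g⁻¹ ≠ z := by
  obtain ⟨u, hu, hyu, hπu⟩ := F.exists_fixed (show rot a1 b1 u0 = u0 by decide)
  have huu : u * u = 1 := (F.M.sq_eq_one hu).2 (by rw [hπu]; decide)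
  obtain ⟨π', p⟩ := S.exists_pair F.Kz F.M hu huu hπu
  obtain ⟨g₀, hg₀⟩ := isConj_iff.1 (S.K_isConj z u F.Kz p.Ku)
  have hnot : ∀ {t : G} {w : W4}, Br S z u F.π t w → w ≠ 0 → t ∉ S.E z := fun {t w} ht hw h =>
    hw (sg_inj ((F.M.acts_unique ht.2 (F.M.acts_mem h)).trans sg_zero.symm))
  have hfixbr : ∀ {t : G} {w : W4}, Br S z u F.π t w → r4 w0 (r4 vd w) = w → Commute F.y t := by
    intro t w ht hw
    have hy' : Acts z (S.E z) F.π F.y (rr w0 vd) := F.hy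
    have h1 := p.br_conj ht (by decide) (by decide) hy' hyu
    rw [hw] at h1
    obtain ⟨d, hd⟩ : ∃ d, F.y * t * F.y⁻¹ * t⁻¹ = d := ⟨_, rfl⟩
    have h2 := p.br_mul h1 (p.br_inv ht)
    rw [w4_add_self, hd] at h2
    have hdE := p.br_zero h2
    have hyd : Commute F.y d := p.inter_comm hdE h2.1 F.hy.1 hyu
    have hd2 := p.inter_sq hdE h2.1
    have e1 : F.y * t * F.y⁻¹ = d * t := by rw [← hd]; group
    have e2 : F.y * F.y * t * (F.y * F.y)⁻¹ = d * d * t := by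
      rw [show F.y * F.y * t * (F.y * F.y)⁻¹ = F.y * (F.y * t * F.y⁻¹) * F.y⁻¹ by group, e1,
        show F.y * (d * t) * F.y⁻¹ = F.y * d * F.y⁻¹ * (F.y * t * F.y⁻¹) by group,
        conj_eq_iff_commute.2 hyd, e1, mul_assoc]
    rw [hd2, one_mul] at e2
    have e3 : F.y ^ 3 * t * (F.y ^ 3)⁻¹ = d * t := by
      rw [show F.y ^ 3 * t * (F.y ^ 3)⁻¹ = F.y * (F.y * F.y * t * (F.y * F.y)⁻¹) * F.y⁻¹ by
        rw [pow_succ, pow_two]; group, e2, e1]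
    rw [F.cube, one_mul, inv_one, mul_one, right_eq_mul] at e3
    rw [e3, one_mul] at e1
    exact conj_eq_iff_commute.1 e1
  obtain ⟨t₁, ht₁⟩ := p.exists_br ((1, 0, 0, 0) : W4)
  obtain ⟨t₂, ht₂⟩ := p.exists_br ((0, 1, 0, 0) : W4)
  have hy₁ := hfixbr ht₁ (by decide)
  have hy₂ := hfixbr ht₂ (by decide)
  have hmemE : ∀ {x : G}, x ∈ S.E u → g₀⁻¹ * x * g₀ ∈ S.E z := fun {x} hx => by
    rw [← S.E_conj g₀ z F.Kz, hg₀, show g₀ * (g₀⁻¹ * x * g₀) * g₀⁻¹ = x by group]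
    exact hx
  obtain ⟨y₀, hy₀⟩ : ∃ y₀, y₀ = g₀⁻¹ * F.y * g₀ := ⟨_, rfl⟩
  have htr : ∀ {x : G}, Commute F.y x → Commute y₀ (g₀⁻¹ * x * g₀) := fun {x} h => by
    show _ = _
    rw [hy₀, show g₀⁻¹ * F.y * g₀ * (g₀⁻¹ * x * g₀) = g₀⁻¹ * (F.y * x) * g₀ by group, h.eq]
    group
  have hback : g₀⁻¹ * u * g₀ = z := by rw [← hg₀]; group
  have hy₀z : Commute y₀ z := by
    have := htr hyu
    rwa [hback] at this
  have hy₀3 : y₀ ^ 3 = 1 := by
    rw [hy₀, ← inv_inv g₀, inv_inv g₀⁻¹, conj_pow, F.cube, mul_one, mul_inv_cancel]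
  obtain ⟨g', -, hg'⟩ := F.M.act y₀ hy₀z
  have hg'3 : g' ^ 3 = 1 := F.M.acts_unique (F.M.acts_pow hg' 3) (hy₀3 ▸ F.M.acts_mem (S.E z).one_mem)
  have hg'1 : g' ≠ 1 := fun e => F.y_ne (by
    have := F.M.eq_one_of_cube (F.M.faith _ (e ▸ hg')) hy₀3
    rw [hy₀] at this
    rw [show F.y = g₀ * (g₀⁻¹ * F.y * g₀) * g₀⁻¹ by group, this]; group)
  have hzu : z ∈ S.E u := p.memR
  have hu' := hmemE hzu
  have hx := hmemE ht₁.1
  have hy' := hmemE ht₂.1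
  have hfix : ∀ {x : G}, g₀⁻¹ * x * g₀ ∈ S.E z → Commute F.y x →
      g'.1 (F.π (g₀⁻¹ * x * g₀)) = F.π (g₀⁻¹ * x * g₀) := fun hx h => F.M.fix_of_commute hg' hx (htr h)
  have hzero : ∀ {x : G}, x ∈ S.E u → F.π (g₀⁻¹ * x * g₀) = 0 → x ∈ S.E z := fun {x} hx h => by
    rcases (F.M.ker _ (hmemE hx)).1 h with e | e
    · rw [show x = g₀ * (g₀⁻¹ * x * g₀) * g₀⁻¹ by group, e, mul_one, mul_inv_cancel]; exact (S.E z).one_mem
    · rw [show x = g₀ * (g₀⁻¹ * x * g₀) * g₀⁻¹ by group, e, hg₀]; exact hu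
  have hadd : ∀ {x x' : G}, x ∈ S.E u → x' ∈ S.E u →
      F.π (g₀⁻¹ * (x * x') * g₀) = F.π (g₀⁻¹ * x * g₀) + F.π (g₀⁻¹ * x' * g₀) := fun {x x'} hx hx' => by
    rw [← F.M.map_mul _ (hmemE hx) _ (hmemE hx'), show g₀⁻¹ * x * g₀ * (g₀⁻¹ * x' * g₀) = g₀⁻¹ * (x * x') * g₀
      by group]
  have hperp : ∀ {x : G}, x ∈ S.E u → Commute x z →
      B6 (F.π (g₀⁻¹ * x * g₀)) (F.π (g₀⁻¹ * z * g₀)) = 0 := fun {x} hx h => by
    refine (F.M.commute_iff (hmemE hx) hu').1 ?_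
    show _ = _
    rw [show g₀⁻¹ * x * g₀ * (g₀⁻¹ * z * g₀) = g₀⁻¹ * (x * z) * g₀ by group, h.eq]
    group
  have h11 : ((1, 0, 0, 0) : W4) ≠ 0 := by decide
  have h22 : ((0, 1, 0, 0) : W4) ≠ 0 := by decide
  have h12 : ((1, 0, 0, 0) : W4) + (0, 1, 0, 0) ≠ 0 := by decide
  have ne₁ : ∀ {x x' : G}, x ∈ S.E u → x' ∈ S.E u →
      F.π (g₀⁻¹ * x * g₀) = F.π (g₀⁻¹ * x' * g₀) → x * x' ∈ S.E z := fun {x x'} hx hx' h =>
    hzero ((S.E u).mul_mem hx hx') (by rw [hadd hx hx', h, v6_add_self])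
  have hzt : ∀ {t : G} {w : W4}, Br S z u F.π t w → w ≠ 0 → t * z ∉ S.E z := fun {t w} ht hw h =>
    hnot ht hw (by have := (S.E z).mul_mem h ((S.E z).inv_mem F.M.mem); rwa [mul_inv_cancel_right] at this)
  have hconj := conj_R1_of_fix hg'3 hg'1 (u := F.π (g₀⁻¹ * z * g₀)) (x := F.π (g₀⁻¹ * t₁ * g₀))
    (y := F.π (g₀⁻¹ * t₂ * g₀))
    ((F.M.sq_eq_one hu').1 (by
      rw [show g₀⁻¹ * z * g₀ * (g₀⁻¹ * z * g₀) = g₀⁻¹ * (z * z) * g₀ by group, F.M.sq_one, mul_one,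
        inv_mul_cancel]))
    (fun h => by
      rcases (F.M.ker _ hu').1 h with e | e
      · exact F.M.ne_one (by rw [show z = g₀ * (g₀⁻¹ * z * g₀) * g₀⁻¹ by group, e]; group)
      · refine p.ne (hg₀.symm.trans ?_)
        conv_lhs => rw [← e]
        group)
    (hfix hu' F.hy.1) (hfix hx hy₁) (hfix hy' hy₂) (hperp ht₁.1 ht₁.2.1) (hperp ht₂.1 ht₂.2.1)
    ⟨fun h => hnot ht₁ h11 (hzero ht₁.1 h), fun h => hzt ht₁ h11 (ne₁ ht₁.1 hzu h)⟩
    ⟨fun h => hnot ht₂ h22 (hzero ht₂.1 h), fun h => hzt ht₂ h22 (ne₁ ht₂.1 hzu h),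
      fun h => hnot (p.br_mul ht₂ ht₁) (by rw [add_comm]; exact h12) (ne₁ ht₂.1 ht₁.1 h),
      fun h => by
        rw [← hadd ht₁.1 hzu] at h
        have := ne₁ ht₂.1 ((S.E u).mul_mem ht₁.1 hzu) h
        rw [← mul_assoc] at this
        exact hzt (p.br_mul ht₂ ht₁) (by rw [add_comm]; exact h12) this⟩
  obtain ⟨c, hcz, hcy⟩ := F.exists_conj hg' hy₀3 hconj
  have e : g₀ * c⁻¹ * z * (g₀ * c⁻¹)⁻¹ = u := by
    rw [show g₀ * c⁻¹ * z * (g₀ * c⁻¹)⁻¹ = g₀ * (c⁻¹ * z * c⁻¹⁻¹) * g₀⁻¹ by group,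
      conj_eq_iff_commute.2 hcz.inv_left, hg₀]
  refine ⟨g₀ * c⁻¹, conj_eq_iff_commute.1 ?_, by rw [e]; exact hu, by rw [e]; exact p.ne⟩
  conv_lhs => rw [← hcy]
  rw [show g₀ * c⁻¹ * (c * y₀ * c⁻¹) * (g₀ * c⁻¹)⁻¹ = g₀ * y₀ * g₀⁻¹ by group, hy₀]
  group

/-- Two of the subgroups inside the centralizer of `y` meet in four elements. -/
theorem card_inter {g : G} (hu : g * z * g⁻¹ ∈ S.E z) (hne : g * z * g⁻¹ ≠ z)
    (hy : Commute F.y (g * z * g⁻¹)) :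
    Nat.card {d : G // d ∈ S.E z ∧ Commute F.y d ∧ d ∈ S.E (g * z * g⁻¹)} = 4 := by
  obtain ⟨u, hu'⟩ : ∃ u, g * z * g⁻¹ = u := ⟨_, rfl⟩
  rw [hu'] at hu hne hy ⊢
  have hK : S.K u := hu' ▸ S.K_conj g z F.Kz
  obtain ⟨π₁, M₁, hπ⟩ := F.M.adapted hu (S.K_sq hK).1 (S.K_sq hK).2 hne
  obtain ⟨π', p⟩ := S.exists_pair F.Kz M₁ hu (S.K_sq hK).1 hπ
  let f : ZMod 2 × ZMod 2 → {d : G // d ∈ S.E z ∧ Commute F.y d ∧ d ∈ S.E u} := fun a =>
    ⟨pw u a.1 * pw z a.2, (p.dd_mem _ _).1, (commute_pw hy _).mul_right (commute_pw F.hy.1 _),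
      (p.dd_mem _ _).2⟩
  have hf : Function.Bijective f := by
    constructor
    · intro a b h
      obtain ⟨h1, h2⟩ := p.dd_inj (congrArg Subtype.val h)
      exact Prod.ext h1 h2
    · rintro ⟨d, hd, -, hd'⟩
      obtain ⟨b, a, rfl⟩ := p.inter hd hd'
      exact ⟨(b, a), rfl⟩
  rw [← Nat.card_congr (Equiv.ofBijective f hf)]
  simp

end Frame

end CfsgLib.SuzThree
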