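import Cfsg.Agent.Lib.SuzThree.Main
import Cfsg.Agent.Lib.SuzType.Hyp
import Cfsg.Agent.Lib.KSteps.GFit

/-!
From the frozen hypotheses to a frame.
-/

set_option autoImplicit false
set_option linter.style.haveILetI false
set_option maxRecDepth 10000
set_option maxHeartbeats 400000

namespace CfsgLib.SuzThree

open CfsgLib.SuzType CfsgLib.Classical.Quad
open scoped commutatorElement

universe u

variable {G : Type u} [Group G]

theorem det_one : ∀ c₁ d₁ c₂ d₂ : ZMod 2, ¬(c₁ = 0 ∧ d₁ = 0) → ¬(c₂ = 0 ∧ d₂ = 0) →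
    ¬(c₁ = c₂ ∧ d₁ = d₂) → c₁ * d₂ + c₂ * d₁ = 1 := by decide

theorem cramer : ∀ c₁ d₁ c₂ d₂ c d : ZMod 2, c₁ * d₂ + c₂ * d₁ = 1 →
    (c * d₂ + d * c₂) * c₁ + (c * d₁ + d * c₁) * c₂ = c ∧
      (c * d₂ + d * c₂) * d₁ + (c * d₁ + d * c₁) * d₂ = d := by decide

/-- An element of order three with commutator subgroup non-abelian of order eight acts as a rotation. -/
theorem conj_R1_of_eight [Finite G] {z : G} {E : Subgroup G} {π : G → V6} (M : Model z E π) {y : G}
    {g : Orth Q6} (hy : Acts z E π y g) (h3 : y ^ 3 = 1) (hy1 : y ≠ 1) (T : Subgroup G) (hTE : T ≤ E)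
    (hT : Nat.card T = 8) (hna : ∃ p ∈ T, ∃ q ∈ T, p * q ≠ q * p)
    (hc : ∀ q ∈ E, q * y * q⁻¹ * y⁻¹ ∈ T) : ∃ k ∈ Ev, k * g * k⁻¹ = R1 := by
  have hg3 : g ^ 3 = 1 := M.acts_unique (M.acts_pow hy 3) (h3 ▸ M.acts_mem E.one_mem)
  have hg1 : g ≠ 1 := fun e => hy1 (M.eq_one_of_cube (M.faith _ (e ▸ hy)) h3)
  obtain ⟨p, hp, q, hq, hne⟩ := hna
  have hpq : B6 (π p) (π q) = 1 :=
    (zcases _).resolve_left fun h => hne ((M.commute_iff (hTE hp) (hTE hq)).2 h).eq
  have hzT : z ∈ T := by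
    have := T.mul_mem (T.mul_mem (T.mul_mem hp hq) (T.inv_mem hp)) (T.inv_mem hq)
    rwa [M.conj_eq (hTE hp) (hTE hq), hpq, pw_one, (M.le_cent q (hTE hq)).eq, mul_inv_cancel_right] at this
  have hspan : ∀ t ∈ T, ∃ c d : ZMod 2, π t = c • π p + d • π q := by
    intro t ht
    by_contra hno
    simp only [not_exists] at hno
    obtain ⟨rep, hrepdef⟩ : ∃ rep : Fin 5 → G, rep = ![1, p, q, p * q, t] := ⟨_, rfl⟩
    have hrep : ∀ i, rep i ∈ T := fun i => by
      rw [hrepdef]; fin_cases i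
      exacts [T.one_mem, hp, hq, T.mul_mem hp hq, ht]
    have hpz : ∀ b : ZMod 2, pw z b ∈ T := fun b => by
      rcases zcases b with rfl | rfl
      · rw [pw_zero]; exact T.one_mem
      · rw [pw_one]; exact hzT
    obtain ⟨val, hvaldef⟩ : ∃ val : Fin 5 → V6, val = ![0, π p, π q, π p + π q, π t] := ⟨_, rfl⟩
    have hval : ∀ i, π (rep i) = val i := fun i => by
      rw [hrepdef, hvaldef]; fin_cases i
      exacts [M.map_one, rfl, rfl, M.map_mul _ (hTE hp) _ (hTE hq), rfl]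
    have hp0 : π p ≠ 0 := fun e => by
      rw [e] at hpq; exact absurd hpq (by revert hpq; generalize π q = w; revert w; decide)
    have hq0 : π q ≠ 0 := fun e => by
      rw [e] at hpq; exact absurd hpq (by revert hpq; generalize π p = w; revert w; decide)
    have hpq0 : π p ≠ π q := fun e => by
      rw [e, self_perp] at hpq; exact absurd hpq (by decide)
    have hsum0 : π p + π q ≠ 0 := fun e => hpq0 ((v6_add_eq e).trans (zero_add _))
    have ht1 := hno 0 0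
    have ht2 := hno 1 0
    have ht3 := hno 0 1
    have ht4 := hno 1 1
    simp only [zero_smul, one_smul, add_zero, zero_add] at ht1 ht2 ht3 ht4
    have hvi : Function.Injective val := by
      intro i j h
      rw [hvaldef] at h
      fin_cases i <;> fin_cases j <;> simp_all [eq_comm]
    let f : Fin 5 × ZMod 2 → T := fun a => ⟨rep a.1 * pw z a.2, T.mul_mem (hrep _) (hpz _)⟩
    have hf : Function.Injective f := by
      rintro ⟨i, b⟩ ⟨j, b'⟩ h
      have h' : rep i * pw z b = rep j * pw z b' := congrArg Subtype.val h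
      have := congrArg π h'
      rw [M.map_mul _ (hTE (hrep i)) _ (M.pw_mem b), M.map_mul _ (hTE (hrep j)) _ (M.pw_mem b'), M.map_pw,
        M.map_pw, add_zero, add_zero, hval, hval] at this
      obtain rfl := hvi this
      exact Prod.ext rfl (pw_inj M.ne_one (mul_left_cancel h'))
    have := Nat.card_le_card_of_injective f hf
    simp [hT] at this
  have hmove : ∀ w : V6, ∃ c d : ZMod 2, w + g.1 w = c • π p + d • π q := by
    intro w
    obtain ⟨r, hr, rfl⟩ := M.surj w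
    obtain ⟨c, d, e⟩ := hspan _ (hc r hr)
    refine ⟨c, d, e ▸ ?_⟩
    have h1 := M.normal y hy.1 _ (E.inv_mem hr)
    rw [show r * y * r⁻¹ * y⁻¹ = r * (y * r⁻¹ * y⁻¹) by group, M.map_mul _ hr _ h1, hy.2 _ (E.inv_mem hr),
      M.map_inv hr]
  obtain ⟨v, hv⟩ : ∃ v, g.1 v ≠ v := not_forall.1 fun h => hg1 (orth_ext fun v => by rw [h v, one_apply])
  obtain ⟨a, ha⟩ : ∃ a, a = v + g.1 v := ⟨_, rfl⟩
  obtain ⟨e, hB, hfix⟩ := move_facts hg3 ha
  have ha0 : a ≠ 0 := fun h => hv (by rw [h] at ha; exact ((v6_add_eq ha.symm).trans (zero_add _)).symm)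
  obtain ⟨c₁, d₁, h₁⟩ := hmove v
  obtain ⟨c₂, d₂, h₂⟩ := hmove (g.1 v)
  rw [← ha] at h₁
  rw [← map_add, ← ha] at h₂
  have hs : ∀ (c : ZMod 2) (x y : V6), B6 (c • x) y = c * B6 x y := fun c x y => by
    rcases zcases c with rfl | rfl <;> simp [show ∀ x : V6, B6 0 x = 0 by decide]
  have hs' : ∀ (c : ZMod 2) (x y : V6), B6 x (c • y) = c * B6 x y := fun c x y => by
    rw [B6_comm, hs, B6_comm]
  have hdet : c₁ * d₂ + c₂ * d₁ = 1 := by
    refine det_one _ _ _ _ ?_ ?_ ?_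
    · rintro ⟨rfl, rfl⟩; exact ha0 (by rw [h₁, zero_smul, zero_smul, add_zero])
    · rintro ⟨rfl, rfl⟩
      exact ha0 (g.1.injective (by rw [h₂, zero_smul, zero_smul, add_zero, map_zero]))
    · rintro ⟨rfl, rfl⟩; exact ha0 (hfix (h₂.trans h₁.symm))
  have hab : B6 a (g.1 a) = 1 := by
    rw [h₂, h₁]
    simp only [B6_add_left, B6_add_right, hs, hs', self_perp, hpq, B6_comm (π q) (π p), mul_zero, mul_one, zero_add, add_zero]
    rw [← hdet]; ring
  refine conj_R1 (hB.symm.trans hab) hab e (plane_perp hg3 (hB.symm.trans hab) e hab fun w => ?_)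
  obtain ⟨c, d, hcd⟩ := hmove w
  obtain ⟨k1, k2⟩ := cramer c₁ d₁ c₂ d₂ c d hdet
  refine ⟨c * d₂ + d * c₂, c * d₁ + d * c₁, hcd.trans ?_⟩
  rw [h₂, h₁, smul_add, smul_add, smul_smul, smul_smul, smul_smul, smul_smul, add_add_add_comm, ← add_smul,
    ← add_smul, k1, k2]

/-- Frames from the frozen hypotheses. -/
theorem exists_frame_of [Finite G] (z : G) (hz : orderOf z = 2)
    (Q : Subgroup (Subgroup.centralizer ({z} : Set G))) [Q.Normal]
    (hF : Cfsg.generalizedFittingSubgroup (Subgroup.centralizer ({z} : Set G)) = Q)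
    (hQ : Cfsg.IsExtraspecial 2 Q) (hcard : Nat.card Q = 2 ^ 7)
    (e : (Subgroup.centralizer ({z} : Set G)) ⧸ Q ≃*
      Cfsg.Omega (ZMod 2) (Cfsg.quadFormMinus 2 (ZMod 2) 1 1))
    (hnwc : ∃ g : G, (∃ hq : g * z * g⁻¹ ∈ Subgroup.centralizer ({z} : Set G),
      (⟨g * z * g⁻¹, hq⟩ : Subgroup.centralizer ({z} : Set G)) ∈ Q) ∧ g * z * g⁻¹ ≠ z)
    (Y : Subgroup (Subgroup.centralizer ({z} : Set G))) (hY : Nat.card Y = 3)
    (hQY : Nat.card ↥⁅Q, Y⁆ = 8) (hQYna : ¬ IsMulCommutative ↥⁅Q, Y⁆) :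
    ∃ (S : Sys G) (F : Frame S z),
      Y.map (Subgroup.centralizer ({z} : Set G)).subtype = Subgroup.zpowers F.y := by
  obtain ⟨π, M⟩ := exists_model z hz Q hF hQ hcard e
  obtain ⟨g₀, ⟨hq, hgQ⟩, hgne⟩ := hnwc
  obtain ⟨S, hS, hSE⟩ := exists_sys M ⟨g₀ * z * g₀⁻¹, ⟨⟨_, hq⟩, hgQ, rfl⟩, hgne, isConj_iff.2 ⟨g₀, rfl⟩⟩
  haveI : Fact (Nat.Prime 3) := ⟨Nat.prime_three⟩
  haveI : IsCyclic ↥Y := isCyclic_of_prime_card hY
  obtain ⟨yC, hgen⟩ := IsCyclic.exists_zpow_surjective (G := ↥Y)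
  have hYz : Y = Subgroup.zpowers (yC : ↥(Subgroup.centralizer ({z} : Set G))) := by
    ext x
    rw [Subgroup.mem_zpowers_iff]
    constructor
    · intro hx
      obtain ⟨n, hn⟩ := hgen ⟨x, hx⟩
      exact ⟨n, congrArg Subtype.val hn⟩
    · rintro ⟨n, rfl⟩; exact Y.zpow_mem yC.2 n
  obtain ⟨y, hydef⟩ : ∃ y : G, y = ((yC : ↥(Subgroup.centralizer ({z} : Set G))) : G) := ⟨_, rfl⟩
  have hmap : Y.map (Subgroup.centralizer ({z} : Set G)).subtype = Subgroup.zpowers y := by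
    rw [hYz, MonoidHom.map_zpowers, hydef]; rfl
  have h3 : y ^ 3 = 1 := by
    have : (yC : ↥Y) ^ 3 = 1 := hY ▸ pow_card_eq_one'
    rw [hydef]
    exact_mod_cast congrArg (fun a : ↥Y => ((a : ↥(Subgroup.centralizer ({z} : Set G))) : G)) this
  have hy1 : y ≠ 1 := fun h => by
    rw [h, Subgroup.zpowers_one_eq_bot, Subgroup.map_eq_bot_iff_of_injective _
      (Subgroup.subtype_injective _)] at hmap
    rw [hmap, Subgroup.card_bot] at hY
    omega
  have hyz : Commute y z := hydef ▸ Subgroup.mem_centralizer_singleton_iff.1 yC.1.2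
  obtain ⟨g, -, hg⟩ := M.act y hyz
  have hTQ : ⁅Q, Y⁆ ≤ Q := Subgroup.commutator_le_left Q Y
  obtain ⟨k, hk, hkg⟩ := conj_R1_of_eight M hg h3 hy1 (⁅Q, Y⁆.map (Subgroup.centralizer ({z} : Set G)).subtype)
    (Subgroup.map_mono hTQ)
    (by rw [Subgroup.card_map_of_injective (Subgroup.subtype_injective _)]; exact hQY)
    (by
      by_contra hall
      refine hQYna ⟨⟨fun a b => Subtype.ext (Subtype.ext ?_)⟩⟩
      by_contra hab
      exact hall ⟨_, ⟨a, a.2, rfl⟩, _, ⟨b, b.2, rfl⟩, hab⟩)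
    (by
      rintro _ ⟨r, hr, rfl⟩
      exact ⟨⁅r, (yC : ↥(Subgroup.centralizer ({z} : Set G)))⁆, Subgroup.commutator_mem_commutator hr yC.2, by
        rw [hydef]; rfl⟩)
  have hact : Acts z (Q.map (Subgroup.centralizer ({z} : Set G)).subtype) (fun x => k.1 (π x)) y R1 := by
    refine ⟨hg.1, fun r hr => ?_⟩
    simp only [← hkg, mul_apply, inv_apply_self, hg.2 r hr]
  have M' := M.comp hk
  rw [← hSE] at M' hact
  obtain ⟨F, hF⟩ := exists_frame hS M' hact h3
  exact ⟨S, F, by rw [hF, hmap]⟩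

/-- The statement at a subgroup equal to the cyclic subgroup of a frame. -/
theorem Frame.conclusion [Finite G] {S : Sys G} {z : G} (F : Frame S z) (Y : Subgroup G)
    (hY : Y = Subgroup.zpowers F.y) [(Y.subgroupOf (Subgroup.centralizer (Y : Set G))).Normal]
    (K : Type) [Field K] [Fintype K] (hK : Fintype.card K = 9) :
    Cfsg.IsQuasisimple ↥(Subgroup.centralizer (Y : Set G)) ∧
      Nonempty (↥(Subgroup.centralizer (Y : Set G)) ⧸ Y.subgroupOf (Subgroup.centralizer (Y : Set G)) ≃*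
        Cfsg.PSU 4 K 3) ∧
      (Subgroup.centralizer (Y : Set G)).relIndex (Subgroup.normalizer (Y : Set G)) = 2 := by
  subst hY
  have hC : Subgroup.centralizer ({F.y} : Set G) =
      Subgroup.centralizer ((Subgroup.zpowers F.y : Subgroup G) : Set G) := by
    ext x
    rw [Subgroup.mem_centralizer_singleton_iff, Subgroup.mem_centralizer_iff]
    constructor
    · intro h t ht
      obtain ⟨n, rfl⟩ := Subgroup.mem_zpowers_iff.1 ht
      exact (Commute.zpow_left (Commute.symm h) n).eq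
    · exact fun h => (h F.y (Subgroup.mem_zpowers _)).symm
  obtain ⟨ψ, hψ⟩ : ∃ ψ : ↥(Subgroup.centralizer ({F.y} : Set G)) ≃*
      ↥(Subgroup.centralizer ((Subgroup.zpowers F.y : Subgroup G) : Set G)),
      ∀ x, (ψ x).1 = x.1 := ⟨MulEquiv.subgroupCongr hC, fun _ => rfl⟩
  obtain ⟨hiso, hqs⟩ := Frame.main (F := F) ((QuotientGroup.mk' ((Subgroup.zpowers F.y).subgroupOf
      (Subgroup.centralizer ((Subgroup.zpowers F.y : Subgroup G) : Set G)))).comp ψ.toMonoidHom)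
    ((QuotientGroup.mk'_surjective _).comp ψ.surjective)
    (fun x => by
      rw [MonoidHom.comp_apply, QuotientGroup.mk'_apply, QuotientGroup.eq_one_iff, Subgroup.mem_subgroupOf]
      exact iff_of_eq (congrArg (fun a : G => a ∈ Subgroup.zpowers F.y) (hψ x))) K hK
  exact ⟨CfsgLib.KSteps.isQuasisimple_congr ψ hqs, hiso, F.relIndex_two⟩

end CfsgLib.SuzThree
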