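import Cfsg.Agent.Lib.SuzThree.Space

/-!
Recognition of the conjugates of the first rotation.
-/

set_option autoImplicit false
set_option linter.style.haveILetI false
set_option synthInstance.maxSize 20000
set_option maxRecDepth 10000
set_option maxHeartbeats 1000000

namespace CfsgLib.SuzThree

open CfsgLib.SuzType CfsgLib.Classical.Quad

theorem refl_move {a t : V6} (ha : q6 a = 1) (ht : q6 t = 1) (h : B6 a t = 1) :
    (refl Q6 (a + t)).1 a = t := by
  have hs : q6 (a + t) = 1 := by rw [q6_add, ha, ht, h]; decide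
  rw [refl6 hs, rf, B6_add_right, h, show B6 a a = 0 from (by decide : ∀ v : V6, B6 v v = 0) a, zero_add,
    one_smul, ← add_assoc, v6_add_self, zero_add]

theorem refl_fix {a t : V6} (ha : q6 a = 1) (h : B6 t a = 0) : (refl Q6 a).1 t = t := by
  rw [refl6 ha, rf, h, zero_smul, add_zero]

theorem step_one : ∀ a : V6, q6 a = 1 → B6 a a1 = 0 → ∃ c, q6 c = 1 ∧ B6 a c = 1 ∧ B6 c a1 = 1 := by
  decide +kernel

theorem step_two : ∀ b : V6, q6 b = 1 → B6 b a1 = 1 → B6 b b1 = 0 →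
    ∃ c, q6 c = 1 ∧ B6 c a1 = 1 ∧ B6 b c = 1 ∧ B6 c b1 = 1 := by
  decide +kernel

/-- The commutator subgroup is transitive on anisotropic pairs. -/
theorem pair_transitive {a b : V6} (ha : q6 a = 1) (hb : q6 b = 1) (h : B6 a b = 1) :
    ∃ k ∈ Ev, k.1 a = a1 ∧ k.1 b = b1 := by
  obtain ⟨k₁, hk₁⟩ : ∃ k : Orth Q6, k.1 a = a1 := by
    rcases zcases (B6 a a1) with h0 | h1
    · obtain ⟨c, hc, hac, hct⟩ := step_one a ha h0
      exact ⟨refl Q6 (c + a1) * refl Q6 (a + c), by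
        rw [mul_apply, refl_move ha hc hac, refl_move hc one_a1.1 hct]⟩
    · exact ⟨_, refl_move ha one_a1.1 h1⟩
  have hb' : q6 (k₁.1 b) = 1 := by rw [q6_g, hb]
  have hab : B6 (k₁.1 b) a1 = 1 := by rw [← hk₁, B6_g, B6_comm, h]
  obtain ⟨k₂, hk₂, hk₂'⟩ : ∃ k : Orth Q6, k.1 a1 = a1 ∧ k.1 (k₁.1 b) = b1 := by
    have hz : ∀ {c d : V6}, B6 c a1 = 1 → B6 d a1 = 1 → B6 a1 (c + d) = 0 := fun {c d} hc hd => by
      rw [B6_add_right, B6_comm a1 c, B6_comm a1 d, hc, hd]; decide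
    have hs : ∀ {c d : V6}, q6 c = 1 → q6 d = 1 → B6 c d = 1 → q6 (c + d) = 1 := fun {c d} hc hd e => by
      rw [q6_add, hc, hd, e]; decide
    have hb1 : B6 b1 a1 = 1 := by decide
    rcases zcases (B6 (k₁.1 b) b1) with h0 | h1
    · obtain ⟨c, hc, hca, hbc, hcb⟩ := step_two _ hb' hab h0
      refine ⟨refl Q6 (c + b1) * refl Q6 (k₁.1 b + c), ?_, by
        rw [mul_apply, refl_move hb' hc hbc, refl_move hc one_a1.2.1 hcb]⟩
      rw [mul_apply, refl_fix (hs hb' hc hbc) (hz hab hca), refl_fix (hs hc one_a1.2.1 hcb) (hz hca hb1)]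
    · exact ⟨_, refl_fix (hs hb' one_a1.2.1 h1) (hz hab hb1), refl_move hb' one_a1.2.1 h1⟩
  have e1 : (k₂ * k₁).1 a = a1 := by rw [mul_apply, hk₁, hk₂]
  have e2 : (k₂ * k₁).1 b = b1 := by rw [mul_apply, hk₂']
  by_cases hk : k₂ * k₁ ∈ Ev
  · exact ⟨_, hk, e1, e2⟩
  refine ⟨refl Q6 a2 * (k₂ * k₁), ?_, ?_, ?_⟩
  · rw [Subgroup.mul_mem_iff_of_index_two index_Ev]
    exact iff_of_false refl_a2.1 hk
  · rw [mul_apply, e1, refl6 one_a2.1]; decide
  · rw [mul_apply, e2, refl6 one_a2.1]; decide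

theorem six_perp : ∀ n : Fin 3 × Fin 3, n.1 ≠ 0 → B6 (nine n) a1 = 0 ∧ B6 (nine n) b1 = 0 := by decide +kernel

/-- An isometry rotating an anisotropic plane and fixing its complement is conjugate to `R1`. -/
theorem conj_R1 {g : Orth Q6} {a : V6} (ha : q6 a = 1) (hab : B6 a (g.1 a) = 1)
    (h2 : g.1 (g.1 a) = a + g.1 a)
    (hperp : ∀ w, B6 w a = 0 → B6 w (g.1 a) = 0 → g.1 w = w) : ∃ k ∈ Ev, k * g * k⁻¹ = R1 := by
  obtain ⟨k, hk, e1, e2⟩ := pair_transitive ha (by rw [q6_g, ha]) hab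
  refine ⟨k, hk, ext_nine fun n => ?_⟩
  have ea : k⁻¹.1 a1 = a := by rw [← e1, inv_apply_self]
  have eb : k⁻¹.1 b1 = g.1 a := by rw [← e2, inv_apply_self]
  have r1 : R1.1 a1 = b1 ∧ R1.1 b1 = a1 + b1 := by simp only [R1_apply]; decide
  have q1 : (k * g * k⁻¹).1 a1 = b1 := by rw [mul_apply, mul_apply, ea, e2]
  have q2 : (k * g * k⁻¹).1 b1 = a1 + b1 := by rw [mul_apply, mul_apply, eb, h2, map_add, e1, e2]
  by_cases hn : n.1 = 0
  · obtain ⟨b, c⟩ := n
    subst hn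
    fin_cases c
    · exact q1.trans r1.1.symm
    · exact q2.trans r1.2.symm
    · show (k * g * k⁻¹).1 (a1 + b1) = R1.1 (a1 + b1)
      rw [map_add, map_add, q1, q2, r1.1, r1.2]
  · rw [mul_apply, mul_apply, hperp _ (by rw [← ea, B6_g, (six_perp n hn).1])
      (by rw [← eb, B6_g, (six_perp n hn).2]), self_apply_inv, R1_nine, tpl, if_neg hn]

/-! ### The commutator plane of an element of order three -/

theorem self_perp : ∀ v : V6, B6 v v = 0 := by decide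

section Three

variable {g : Orth Q6} (h3 : g ^ 3 = 1)
include h3

theorem three_apply (v : V6) : g.1 (g.1 (g.1 v)) = v := by
  have h := congrArg (fun k : Orth Q6 => k.1 v) h3
  simpa [pow_succ, mul_apply] using h

theorem move_facts {v a : V6} (ha : a = v + g.1 v) :
    g.1 (g.1 a) = a + g.1 a ∧ B6 a (g.1 a) = q6 a ∧ (g.1 a = a → a = 0) := by
  have e : g.1 (g.1 a) = a + g.1 a := by
    rw [ha, map_add, map_add, three_apply h3]
    generalize g.1 (g.1 v) = x; generalize g.1 v = y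
    revert v; intro v
    rw [show v + y + (y + x) = v + x + (y + y) by abel, v6_add_self, add_zero, add_comm v x]
    exact fun _ => rfl
  refine ⟨e, ?_, fun h => ?_⟩
  · have hq := congrArg q6 e
    rw [q6_g, q6_g, q6_add, q6_g] at hq
    have : ∀ x y : ZMod 2, x = x + x + y → y = x := by decide
    exact this _ _ hq
  · rw [h, h, v6_add_self] at e; exact e

theorem fixed_perp {v w : V6} (hw : g.1 w = w) : B6 w (v + g.1 v) = 0 := by
  rw [B6_add_right]
  conv_lhs => arg 2; rw [← hw, B6_g]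
  exact CharTwo.add_self_eq_zero _

theorem plane_perp {a : V6} (ha : q6 a = 1) (e : g.1 (g.1 a) = a + g.1 a) (hab : B6 a (g.1 a) = 1)
    (hall : ∀ w, ∃ c d : ZMod 2, w + g.1 w = c • a + d • g.1 a)
    (w : V6) (h1 : B6 w a = 0) (h2 : B6 w (g.1 a) = 0) : g.1 w = w := by
  have e1 : B6 (g.1 w) a = 0 := by
    conv_lhs => arg 2; rw [← three_apply h3 a]
    rw [B6_g, e, B6_add_right, h1, h2, add_zero]
  have e2 : B6 (g.1 w) (g.1 a) = 0 := by rw [B6_g, h1]
  obtain ⟨c, d, hcd⟩ := hall w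
  have f1 : B6 (c • a + d • g.1 a) a = d := by
    rcases zcases c with rfl | rfl <;> rcases zcases d with rfl | rfl <;>
      simp [B6_add_left, self_perp, B6_comm (g.1 a) a, hab, show ∀ x : V6, B6 0 x = 0 by decide]
  have f2 : B6 (c • a + d • g.1 a) (g.1 a) = c := by
    rcases zcases c with rfl | rfl <;> rcases zcases d with rfl | rfl <;>
      simp [B6_add_left, self_perp, hab, show ∀ x : V6, B6 0 x = 0 by decide]
  rw [← hcd, B6_add_left, h1, e1, add_zero] at f1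
  rw [← hcd, B6_add_left, h2, e2, add_zero] at f2
  rw [← f1, ← f2, zero_smul, zero_smul, add_zero] at hcd
  exact ((v6_add_eq hcd).trans (zero_add _)).symm

end Three

/-- Coordinates for the vectors fixed by the first rotation. -/
def inV0 (x : ZMod 2 × ZMod 2 × ZMod 2 × ZMod 2) : V6 := (x.1, x.2.1, (x.2.2.1, x.2.2.2, 0, 0))

theorem inV0_surj : ∀ v : V6, B6 v a1 = 0 → B6 v b1 = 0 → ∃ x, inV0 x = v := by decide +kernel

theorem no_triple : ∀ a b : V6, q6 a = 0 → q6 b = 0 → B6 a b = 0 → B6 u0 a = 0 → B6 u0 b = 0 →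
    a = 0 ∨ a = u0 ∨ b = 0 ∨ b = u0 ∨ b = a ∨ b = a + u0 := by decide +kernel

theorem perp_three : ∀ u x y : ZMod 2 × ZMod 2 × ZMod 2 × ZMod 2, u ≠ 0 → x ≠ 0 → x ≠ u →
    B6 (inV0 x) (inV0 u) = 0 → y ≠ 0 → y ≠ u → B6 (inV0 y) (inV0 u) = 0 → y ≠ x → y ≠ x + u →
    ∀ d, B6 (inV0 d) (inV0 u) = 0 → B6 (inV0 d) (inV0 x) = 0 → B6 (inV0 d) (inV0 y) = 0 → d = 0 ∨ d = u := by
  decide +kernel

theorem inV0_add : ∀ x y, inV0 (x + y) = inV0 x + inV0 y := by decide +kernel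

/-- An element of order three fixing three independent vectors orthogonal to a singular one of them. -/
theorem conj_R1_of_fix {g : Orth Q6} (h3 : g ^ 3 = 1) (hg : g ≠ 1) {u x y : V6} (hu : q6 u = 0) (hu0 : u ≠ 0)
    (gu : g.1 u = u) (gx : g.1 x = x) (gy : g.1 y = y) (hxu : B6 x u = 0) (hyu : B6 y u = 0)
    (hx : x ≠ 0 ∧ x ≠ u) (hy : y ≠ 0 ∧ y ≠ u ∧ y ≠ x ∧ y ≠ x + u) : ∃ k ∈ Ev, k * g * k⁻¹ = R1 := by
  obtain ⟨v, hv⟩ : ∃ v, g.1 v ≠ v := not_forall.1 fun h => hg (orth_ext fun v => by rw [h v, one_apply])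
  obtain ⟨a, ha⟩ : ∃ a, a = v + g.1 v := ⟨_, rfl⟩
  obtain ⟨e, hB, hfix⟩ := move_facts h3 ha
  have ha0 : a ≠ 0 := fun h => hv (by rw [h] at ha; exact ((v6_add_eq ha.symm).trans (zero_add _)).symm)
  have hga : g.1 a ≠ a := fun h => ha0 (hfix h)
  have hqa : q6 a = 1 := by
    refine zne fun h0 => ?_
    obtain ⟨k, hk, eu⟩ := ev_transitive hu hu0
    have h := no_triple (k⁻¹.1 a) (k⁻¹.1 (g.1 a)) (by rw [q6_g, h0]) (by rw [q6_g, q6_g, h0])
      (by rw [B6_g, hB, h0]) (by rw [← inv_apply_self k u0, B6_g, eu, ha, fixed_perp h3 gu])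
      (by rw [← inv_apply_self k u0, B6_g, eu, ha, map_add, fixed_perp h3 gu])
    have hinj : ∀ {p q : V6}, k⁻¹.1 p = k⁻¹.1 q → p = q := fun h => k⁻¹.1.injective h
    have hk0 : k⁻¹.1 u = u0 := by rw [← eu, inv_apply_self]
    rw [← hk0] at h
    rcases h with h | h | h | h | h | h
    · exact ha0 (hinj (by rw [h, map_zero]))
    · exact hga (by rw [hinj h, gu])
    · exact ha0 (g.1.injective ((hinj (by rw [h, map_zero])).trans (map_zero g.1).symm))
    · exact hga (g.1.injective (by rw [hinj h, gu]))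
    · exact hga (hinj h)
    · rw [← map_add] at h
      rw [hinj h, map_add, gu] at e
      rw [hinj h, show a + (a + u) = u by rw [← add_assoc, v6_add_self, zero_add]] at e
      rw [add_assoc, v6_add_self, add_zero] at e
      exact hga (by rw [e, gu])
  refine conj_R1 hqa (hB.trans hqa) e (plane_perp h3 hqa e (hB.trans hqa) fun w => ?_)
  obtain ⟨d, hd⟩ : ∃ d, d = w + g.1 w := ⟨_, rfl⟩
  obtain ⟨k, hk, e1, e2⟩ := pair_transitive hqa (by rw [q6_g, hqa]) (hB.trans hqa)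
  obtain ⟨d', hd'⟩ : ∃ d', d' = d + (B6 d (g.1 a) • a + B6 d a • g.1 a) := ⟨_, rfl⟩
  have hab := hB.trans hqa
  have hs : ∀ (c : ZMod 2) (p q : V6), B6 (c • p) q = c * B6 p q := fun c p q => by
    rcases zcases c with rfl | rfl <;> simp [show ∀ x : V6, B6 0 x = 0 by decide]
  have fd : ∀ {p : V6}, B6 d p = 0 → B6 a p = 0 → B6 (g.1 a) p = 0 → B6 d' p = 0 := fun h1 h2 h3 => by
    rw [hd', B6_add_left, B6_add_left, hs, hs, h1, h2, h3]; ring
  have fa : B6 d' a = 0 ∧ B6 d' (g.1 a) = 0 := by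
    constructor <;> rw [hd', B6_add_left, B6_add_left, hs, hs]
    · rw [self_perp, B6_comm (g.1 a) a, hab]; ring_nf; simp [CharTwo.two_eq_zero]
    · rw [self_perp, hab]; ring_nf; simp [CharTwo.two_eq_zero]
  have hperp : ∀ {p : V6}, g.1 p = p → B6 p a = 0 ∧ B6 p (g.1 a) = 0 := fun hp => by
    refine ⟨ha ▸ fixed_perp h3 hp, ?_⟩
    conv_lhs => arg 1; rw [← hp]
    rw [B6_g, ha, fixed_perp h3 hp]
  have fp : ∀ {p : V6}, g.1 p = p → B6 d' p = 0 := fun hp =>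
    fd (by rw [B6_comm, hd, fixed_perp h3 hp]) (by rw [B6_comm, (hperp hp).1])
      (by rw [B6_comm, (hperp hp).2])
  have hin : ∀ {p : V6}, B6 p a = 0 → B6 p (g.1 a) = 0 → ∃ c, inV0 c = k.1 p := fun h1 h2 =>
    inV0_surj _ (by rw [← e1, B6_g, h1]) (by rw [← e2, B6_g, h2])
  obtain ⟨cu, hcu⟩ := hin (hperp gu).1 (hperp gu).2
  obtain ⟨cx, hcx⟩ := hin (hperp gx).1 (hperp gx).2
  obtain ⟨cy, hcy⟩ := hin (hperp gy).1 (hperp gy).2
  obtain ⟨cd, hcd⟩ := hin fa.1 fa.2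
  have z0 : inV0 0 = 0 := rfl
  have hne : ∀ {p q : V6} {c c' : ZMod 2 × ZMod 2 × ZMod 2 × ZMod 2}, inV0 c = k.1 p → inV0 c' = k.1 q →
      c = c' → p = q := fun h h' e => k.1.injective (by rw [← h, ← h', e])
  have z1 : inV0 0 = k.1 0 := by rw [map_zero]; rfl
  have hx3 : inV0 (cx + cu) = k.1 (x + u) := by rw [inV0_add, hcx, hcu, map_add]
  rcases perp_three cu cx cy (fun h => hu0 (hne hcu z1 h)) (fun h => hx.1 (hne hcx z1 h))
      (fun h => hx.2 (hne hcx hcu h)) (by rw [hcx, hcu, B6_g, hxu]) (fun h => hy.1 (hne hcy z1 h))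
      (fun h => hy.2.1 (hne hcy hcu h)) (by rw [hcy, hcu, B6_g, hyu]) (fun h => hy.2.2.1 (hne hcy hcx h))
      (fun h => hy.2.2.2 (hne hcy hx3 h)) cd (by rw [hcd, hcu, B6_g, fp gu]) (by rw [hcd, hcx, B6_g, fp gx])
      (by rw [hcd, hcy, B6_g, fp gy]) with h | h
  · refine ⟨B6 d (g.1 a), B6 d a, ?_⟩
    have := hne hcd z1 h
    rw [hd'] at this
    rw [← hd]
    exact (v6_add_eq this).trans (zero_add _)
  · exfalso
    have h' := hne hcd hcu h
    obtain ⟨ee, -, -⟩ := move_facts h3 hd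
    rw [hd'] at h'
    rw [v6_add_eq h'] at ee
    simp only [map_add, map_smul, e, gu] at ee
    generalize B6 d (g.1 a) = c₁ at ee
    generalize B6 d a = c₂ at ee
    generalize g.1 a = b at ee
    have key : ∀ u a b c₁ c₂ : ZMod 2, u + (c₁ * (a + b) + c₂ * (b + (a + b))) =
        u + (c₁ * a + c₂ * b) + (u + (c₁ * b + c₂ * (a + b))) → u = 0 := by decide +kernel
    refine hu0 ?_
    simp only [Prod.ext_iff, Prod.fst_add, Prod.snd_add, Prod.smul_fst, Prod.smul_snd, smul_eq_mul] at ee ⊢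
    obtain ⟨k1, k2, k3, k4, k5, k6⟩ := ee
    exact ⟨key _ _ _ _ _ k1, key _ _ _ _ _ k2, key _ _ _ _ _ k3, key _ _ _ _ _ k4, key _ _ _ _ _ k5,
      key _ _ _ _ _ k6⟩

end CfsgLib.SuzThree
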