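import Cfsg.Agent.Lib.SuzThree.Frame

/-!
The centralizer of the involution modulo the element of order three.
-/

set_option autoImplicit false
set_option linter.style.haveILetI false
set_option maxRecDepth 10000
set_option synthInstance.maxSize 20000
set_option synthInstance.maxHeartbeats 400000
set_option maxHeartbeats 200000

namespace CfsgLib.SuzThree

open CfsgLib.SuzType CfsgLib.Classical.Quad

/-- The normal form of a rotation. -/
theorem El_rot (i j k : Fin 3) : El (i, Fin.castLE (Nat.le_add_right 3 3) j, Fin.castLE (Nat.le_add_right 3 3) k, false) =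
    R1 ^ i.val * (R2 ^ j.val * R3 ^ k.val) := by
  symm
  refine eq_El fun n => ?_
  have h1 : ∀ (m : ℕ) n, (R1 ^ m).1 (nine n) = nine ((tpl 0 1)^[m] n) := fun m => by
    induction m with
    | zero => intro n; rw [pow_zero, one_apply]; rfl
    | succ m ih => intro n; rw [pow_succ, mul_apply, R1_nine, ih, Function.iterate_succ_apply]
  have h2 : ∀ (m : ℕ) n, (R2 ^ m).1 (nine n) = nine ((tpl 1 1)^[m] n) := fun m => by
    induction m with
    | zero => intro n; rw [pow_zero, one_apply]; rfl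
    | succ m ih => intro n; rw [pow_succ, mul_apply, R2_nine, ih, Function.iterate_succ_apply]
  have h3 : ∀ (m : ℕ) n, (R3 ^ m).1 (nine n) = nine ((tpl 2 1)^[m] n) := fun m => by
    induction m with
    | zero => intro n; rw [pow_zero, one_apply]; rfl
    | succ m ih => intro n; rw [pow_succ, mul_apply, R3_nine, ih, Function.iterate_succ_apply]
  rw [mul_apply, mul_apply, h3, h2, h1]
  exact congrArg nine ((by decide +kernel : ∀ (i j k : Fin 3) n,
    (tpl 0 1)^[i.val] ((tpl 1 1)^[j.val] ((tpl 2 1)^[k.val] n)) =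
      T (i, Fin.castLE (Nat.le_add_right 3 3) j, Fin.castLE (Nat.le_add_right 3 3) k, false) n) i j k n)

theorem rot_form {p : Par} (hp : IsRot p) :
    ∃ i j k : Fin 3, El p = R1 ^ i.val * (R2 ^ j.val * R3 ^ k.val) := by
  obtain ⟨i, j, k, s⟩ := p
  obtain ⟨hj, hk, rfl⟩ := hp
  exact ⟨i, ⟨j.val, hj⟩, ⟨k.val, hk⟩, by rw [← El_rot]; rfl⟩

theorem El_fst (i : Fin 3) : El (i, 0, 0, false) = R1 ^ i.val := by
  have := El_rot i 0 0
  simp only [Fin.val_zero, pow_zero, mul_one] at this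
  exact this

/-- A rotation some power of two of which is a power of the first one is a power of the first one. -/
theorem rot_two {p : Par} (hp : IsRot p) {m i : ℕ} (h : El p ^ 2 ^ m = R1 ^ i) : ∃ j : ℕ, El p = R1 ^ j := by
  have h3 := rot_cube hp
  have h2 : ∀ m, 2 ^ m % 3 = 1 ∨ 2 ^ m % 3 = 2 := by
    intro m
    induction m with
    | zero => simp
    | succ m ih => rw [pow_succ]; omega
  rw [pow_eq_pow_mod _ h3] at h
  rcases h2 m with e | e <;> rw [e] at h
  · exact ⟨i, by rwa [pow_one] at h⟩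
  · exact ⟨i * 2, by rw [pow_mul, ← h, ← pow_mul, pow_succ, h3, one_mul]⟩

theorem rot_of_conj : ∀ p, (∃ i : Fin 3, ∀ n, T p (tpl 1 1 n) = (tpl 0 1)^[i.val] (tpl 1 1 (T p n))) →
    (∃ i : Fin 3, ∀ n, T p (tpl 2 1 n) = (tpl 0 1)^[i.val] (tpl 2 1 (T p n))) → IsRot p := by
  decide +kernel

theorem rot_of_conj' {g : Orth Q6} (h1 : Commute g R1) {i j : ℕ} (h2 : g * R2 * g⁻¹ = R1 ^ i * R2)
    (h3 : g * R3 * g⁻¹ = R1 ^ j * R3) : ∃ p, IsRot p ∧ g = El p := by
  obtain ⟨p, rfl⟩ := exists_par h1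
  refine ⟨p, rot_of_conj p ⟨⟨i % 3, Nat.mod_lt _ (by norm_num)⟩, fun n => ?_⟩
    ⟨⟨j % 3, Nat.mod_lt _ (by norm_num)⟩, fun n => ?_⟩, rfl⟩
  all_goals
    refine nine_injective ?_
    have hpow : ∀ (m : ℕ) n, (R1 ^ m).1 (nine n) = nine ((tpl 0 1)^[m] n) := fun m => by
      induction m with
      | zero => intro n; rw [pow_zero, one_apply]; rfl
      | succ m ih => intro n; rw [pow_succ, mul_apply, R1_nine, ih, Function.iterate_succ_apply]
    rw [pow_eq_pow_mod _ rot_facts.1] at h2 h3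
    rw [mul_inv_eq_iff_eq_mul] at h2 h3
    first
      | (have := congrArg (fun k : Orth Q6 => k.1 (nine n)) h2
         simp only [mul_apply, El_nine, R2_nine, hpow] at this
         exact this)
      | (have := congrArg (fun k : Orth Q6 => k.1 (nine n)) h3
         simp only [mul_apply, El_nine, R3_nine, hpow] at this
         exact this)

universe u v

variable {G : Type u} [Group G]

namespace Frame

variable {S : Sys G} {z : G} (F : Frame S z)

/-- The centralizer of `z` and `y`. -/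
def W (F : Frame S z) : Subgroup G :=
  Subgroup.centralizer ({z} : Set G) ⊓ Subgroup.centralizer ({F.y} : Set G)

theorem mem_W {x : G} : x ∈ F.W ↔ Commute x z ∧ Commute x F.y := by
  rw [W, Subgroup.mem_inf, Subgroup.mem_centralizer_singleton_iff, Subgroup.mem_centralizer_singleton_iff]
  rfl

/-- The elements of the extraspecial subgroup centralizing `y`. -/
def D (F : Frame S z) : Subgroup G := S.E z ⊓ Subgroup.centralizer ({F.y} : Set G)

theorem mem_D {x : G} : x ∈ F.D ↔ x ∈ S.E z ∧ Commute F.y x := by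
  rw [D, Subgroup.mem_inf, Subgroup.mem_centralizer_singleton_iff]
  exact and_congr_right fun _ => ⟨Eq.symm, Eq.symm⟩

theorem D_le : F.D ≤ F.W := fun x hx => by
  obtain ⟨h1, h2⟩ := F.mem_D.1 hx
  exact F.mem_W.2 ⟨F.M.le_cent x h1, h2.symm⟩

theorem z_mem_D : z ∈ F.D := F.mem_D.2 ⟨F.M.mem, F.hy.1⟩

theorem D_conj {x d : G} (hx : x ∈ F.W) (hd : d ∈ F.D) : x * d * x⁻¹ ∈ F.D := by
  obtain ⟨hxz, hxy⟩ := F.mem_W.1 hx
  obtain ⟨hd1, hd2⟩ := F.mem_D.1 hd
  exact F.mem_D.2 ⟨F.M.normal x hxz d hd1, (hxy.symm.mul_right hd2).mul_right hxy.symm.inv_right⟩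

theorem card_D [Finite G] : Nat.card F.D = 32 := by
  let f : (ZMod 2 × ZMod 2 × ZMod 2 × ZMod 2) × ZMod 2 → G := fun a =>
    Classical.choose (F.M.surj (inV0 a.1)) * pw z a.2
  have hfix : ∀ x, rot a1 b1 (inV0 x) = inV0 x := by decide +kernel
  have hq := fun v => Classical.choose_spec (F.M.surj (inV0 v))
  have hmem : ∀ a, f a ∈ F.D := fun a => by
    refine F.mem_D.2 ⟨(S.E z).mul_mem (hq a.1).1 (F.M.pw_mem _),
      Commute.mul_right ((F.comm_iff (hq a.1).1).2 ?_) (commute_pw F.hy.1 _)⟩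
    rw [(hq a.1).2, hfix]
  have hb : Function.Bijective (fun a => (⟨f a, hmem a⟩ : F.D)) := by
    constructor
    · rintro ⟨x, c⟩ ⟨x', c'⟩ h
      have h' : f (x, c) = f (x', c') := congrArg Subtype.val h
      have := congrArg F.π h'
      simp only [f] at this h'
      rw [F.M.map_mul _ (hq x).1 _ (F.M.pw_mem _), F.M.map_mul _ (hq x').1 _ (F.M.pw_mem _), F.M.map_pw,
        F.M.map_pw, add_zero, add_zero, (hq x).2, (hq x').2] at this
      obtain rfl : x = x' := (by decide +kernel : ∀ x y, inV0 x = inV0 y → x = y) _ _ this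
      rw [pw_inj F.M.ne_one (mul_left_cancel h')]
    · rintro ⟨d, hd⟩
      obtain ⟨h1, h2⟩ := F.mem_D.1 hd
      obtain ⟨x, hx⟩ : ∃ x, inV0 x = F.π d := (by decide +kernel :
        ∀ v, rot a1 b1 v = v → ∃ x, inV0 x = v) _ ((F.comm_iff h1).1 h2)
      rcases F.M.eq_of_map h1 (hq x).1 (by rw [(hq x).2, hx]) with e | e
      · exact ⟨(x, 0), Subtype.ext (by simp only [f]; rw [pw_zero, mul_one, e])⟩
      · exact ⟨(x, 1), Subtype.ext (by simp only [f]; rw [pw_one, e])⟩
  rw [← Nat.card_congr (Equiv.ofBijective _ hb)]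
  simp

/-- The action. -/
noncomputable def φ (F : Frame S z) : ↥F.W →* Orth Q6 :=
  MonoidHom.mk' (fun x => Classical.choose (F.M.act x.1 (F.mem_W.1 x.2).1)) fun a b =>
    F.M.acts_unique (Classical.choose_spec (F.M.act (a * b : ↥F.W).1 (F.mem_W.1 (a * b).2).1)).2
      (F.M.acts_mul (Classical.choose_spec (F.M.act a.1 (F.mem_W.1 a.2).1)).2
        (Classical.choose_spec (F.M.act b.1 (F.mem_W.1 b.2).1)).2)

theorem φ_spec (x : ↥F.W) : F.φ x ∈ Ev ∧ Acts z (S.E z) F.π x.1 (F.φ x) :=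
  Classical.choose_spec (F.M.act x.1 (F.mem_W.1 x.2).1)

theorem φ_comm (x : ↥F.W) : Commute (F.φ x) R1 := by
  have h := F.M.acts_mul (F.φ_spec x).2 F.hy
  have h' := F.M.acts_mul F.hy (F.φ_spec x).2
  rw [(F.mem_W.1 x.2).2.eq] at h
  exact F.M.acts_unique h h'

theorem mem_D_of_φ {x : ↥F.W} (h : F.φ x = 1) : (x : G) ∈ F.D :=
  F.mem_D.2 ⟨F.M.faith _ (h ▸ (F.φ_spec x).2), (F.mem_W.1 x.2).2.symm⟩

theorem card_W [Finite G] : Nat.card F.W = 32 * 108 := by
  have hker : F.φ.ker = F.D.subgroupOf F.W := by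
    ext x
    rw [MonoidHom.mem_ker, Subgroup.mem_subgroupOf]
    exact ⟨F.mem_D_of_φ, fun h => F.M.acts_unique (F.φ_spec x).2 (F.M.acts_mem (F.mem_D.1 h).1)⟩
  have hran : F.φ.range = Subgroup.centralizer ({R1} : Set (Orth Q6)) ⊓ Ev := by
    ext g
    constructor
    · rintro ⟨x, rfl⟩
      exact ⟨Subgroup.mem_centralizer_singleton_iff.2 (F.φ_comm x).eq, (F.φ_spec x).1⟩
    · rintro ⟨hg1, hg2⟩
      obtain ⟨c, hc, hcy⟩ := F.M.lift_comm F.hy F.cube hg2 (Subgroup.mem_centralizer_singleton_iff.1 hg1)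
      refine ⟨⟨c, F.mem_W.2 ⟨hc.1, hcy⟩⟩, F.M.acts_unique (F.φ_spec _).2 hc⟩
  rw [← Subgroup.card_mul_index F.φ.ker, Subgroup.index_ker, hran, card_cent_Ev, hker,
    Nat.card_congr (Subgroup.subgroupOfEquivOfLe F.D_le).toEquiv, F.card_D]

theorem pow_y_mem (i : ℕ) : F.y ^ i ∈ F.W :=
  F.mem_W.2 ⟨F.hy.1.pow_left i, (Commute.refl F.y).pow_left i⟩

/-- An element of the group generated by `y` of order dividing a power of two is trivial. -/
theorem y_pow_two {t : G} (ht : t ∈ Subgroup.zpowers F.y) {m : ℕ} (h : t ^ 2 ^ m = 1) : t = 1 := by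
  obtain ⟨k, rfl⟩ := Subgroup.mem_zpowers_iff.1 ht
  have h3 : (F.y ^ k) ^ 3 = 1 := by
    rw [← zpow_natCast, ← zpow_mul, mul_comm, zpow_mul, zpow_natCast, F.cube, one_zpow]
  rw [← orderOf_eq_one_iff]
  exact Nat.eq_one_of_dvd_coprimes (a := 2 ^ m) (b := 3) (Nat.Coprime.pow_left m (by norm_num))
    (orderOf_dvd_of_pow_eq_one h) (orderOf_dvd_of_pow_eq_one h3)

theorem D_inter_y {x : G} (hx : x ∈ F.D) (hy : x ∈ Subgroup.zpowers F.y) : x = 1 :=
  F.y_pow_two hy (m := 2) (F.M.pow_four (F.mem_D.1 hx).1)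

end Frame

end CfsgLib.SuzThree
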