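import Cfsg.Agent.Lib.SuzType.Space

/-!
Isometries of order three of the elliptic space of dimension six with an anisotropic commutator plane.
-/

set_option autoImplicit false
set_option linter.style.haveILetI false
set_option synthInstance.maxSize 20000
set_option maxRecDepth 10000
set_option maxHeartbeats 1000000

namespace CfsgLib.SuzThree

open CfsgLib.SuzType CfsgLib.Classical.Quad

/-! ### Three anisotropic planes -/

/-- The first vector of the first plane. -/
def a1 : V6 := emb w0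

/-- The second vector of the first plane. -/
def b1 : V6 := emb vd

/-- The first vector of the second plane. -/
def a2 : V6 := (1, 1, 0)

/-- The second vector of the second plane. -/
def b2 : V6 := (1, 0, (1, 1, 0, 0))

/-- The first vector of the third plane. -/
def a3 : V6 := emb (1, 1, 0, 0)

/-- The second vector of the third plane. -/
def b3 : V6 := (1, 1, (1, 0, 0, 0))

/-- The rotation of a plane, computably. -/
def rot (a b x : V6) : V6 := rf a (rf b x)

theorem one_a1 : q6 a1 = 1 ∧ q6 b1 = 1 ∧ B6 a1 b1 = 1 := by decide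

theorem one_a2 : q6 a2 = 1 ∧ q6 b2 = 1 ∧ B6 a2 b2 = 1 := by decide

theorem one_a3 : q6 a3 = 1 ∧ q6 b3 = 1 ∧ B6 a3 b3 = 1 := by decide

/-- The rotation of the first plane. -/
noncomputable def R1 : Orth Q6 := refl Q6 a1 * refl Q6 b1

/-- The rotation of the second plane. -/
noncomputable def R2 : Orth Q6 := refl Q6 a2 * refl Q6 b2

/-- The rotation of the third plane. -/
noncomputable def R3 : Orth Q6 := refl Q6 a3 * refl Q6 b3

theorem R1_apply (x : V6) : R1.1 x = rot a1 b1 x := by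
  rw [R1, mul_apply, refl6 one_a1.2.1, refl6 one_a1.1, rot]

theorem R2_apply (x : V6) : R2.1 x = rot a2 b2 x := by
  rw [R2, mul_apply, refl6 one_a2.2.1, refl6 one_a2.1, rot]

theorem R3_apply (x : V6) : R3.1 x = rot a3 b3 x := by
  rw [R3, mul_apply, refl6 one_a3.2.1, refl6 one_a3.1, rot]

theorem R_mem : R1 ∈ Ev ∧ R2 ∈ Ev ∧ R3 ∈ Ev :=
  ⟨rr_mem one_a1.1 one_a1.2.1, rr_mem one_a2.1 one_a2.2.1, rr_mem one_a3.1 one_a3.2.1⟩

/-- The interchange of the second and third planes, computably. -/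
def swf (x : V6) : V6 := (x.2.2.1, x.2.2.2.1, (x.1, x.2.1, x.2.2.2.2.1, x.2.2.2.2.2))

theorem swf_facts : (∀ x y : V6, swf (x + y) = swf x + swf y) ∧ (∀ x, swf (swf x) = x) ∧
    (∀ x, q6 (swf x) = q6 x) := by
  refine ⟨fun x y => rfl, fun x => rfl, ?_⟩
  decide

/-- The interchange of the second and third planes. -/
noncomputable def SW : Orth Q6 :=
  ⟨{ toFun := swf
     map_add' := swf_facts.1
     map_smul' := fun c x => rfl
     invFun := swf
     left_inv := swf_facts.2.1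
     right_inv := swf_facts.2.1 }, fun x => by rw [Q6_apply, Q6_apply]; exact swf_facts.2.2 x⟩

theorem SW_apply (x : V6) : SW.1 x = swf x := rfl

theorem basis_six : ∀ v : V6, ∃ c d e f g h : ZMod 2,
    v = c • a1 + d • b1 + e • a2 + f • b2 + g • a3 + h • b3 := by decide +kernel

/-- The nine vectors of length one in the three planes. -/
def nine : Fin 3 × Fin 3 → V6 := fun n =>
  ![![a1, b1, a1 + b1], ![a2, b2, a2 + b2], ![a3, b3, a3 + b3]] n.1 n.2

/-- The six permutations of three vectors; the first three are the rotations. -/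
def P3 : Fin 6 → Fin 3 → Fin 3 := ![![0, 1, 2], ![1, 2, 0], ![2, 0, 1], ![0, 2, 1], ![2, 1, 0], ![1, 0, 2]]

/-- The interchange on indices. -/
def tsw (s : Bool) (n : Fin 3 × Fin 3) : Fin 3 × Fin 3 := if s then (![0, 2, 1] n.1, n.2) else n

/-- A permutation of one block. -/
def tpl (b : Fin 3) (j : Fin 6) (n : Fin 3 × Fin 3) : Fin 3 × Fin 3 := if n.1 = b then (b, P3 j n.2) else n

theorem nine_one : ∀ n, q6 (nine n) = 1 := by decide +kernel

theorem nine_B : ∀ m n, B6 (nine m) (nine n) = if m.1 = n.1 ∧ m.2 ≠ n.2 then 1 else 0 := by decide +kernel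

theorem nine_injective : Function.Injective nine := by
  intro m n h
  by_contra hne
  have key : ∀ m n, nine m = nine n → m = n := by decide +kernel
  exact hne (key m n h)

theorem ext_nine {g h : Orth Q6} (e : ∀ n, g.1 (nine n) = h.1 (nine n)) : g = h := by
  refine orth_ext fun v => ?_
  obtain ⟨c, d, e', f, g', h', rfl⟩ := basis_six v
  have e1 : g.1 a1 = h.1 a1 := e (0, 0)
  have e2 : g.1 b1 = h.1 b1 := e (0, 1)
  have e3 : g.1 a2 = h.1 a2 := e (1, 0)
  have e4 : g.1 b2 = h.1 b2 := e (1, 1)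
  have e5 : g.1 a3 = h.1 a3 := e (2, 0)
  have e6 : g.1 b3 = h.1 b3 := e (2, 1)
  simp only [map_add, map_smul, e1, e2, e3, e4, e5, e6]

/-! ### Parameters for the centralizer of the first rotation -/

/-- Parameters. -/
abbrev Par : Type := Fin 3 × Fin 6 × Fin 6 × Bool

/-- A parameter's permutation of the nine vectors. -/
def T (p : Par) (n : Fin 3 × Fin 3) : Fin 3 × Fin 3 :=
  tpl 0 (Fin.castLE (by omega) p.1) (tpl 1 p.2.1 (tpl 2 p.2.2.1 (tsw p.2.2.2 n)))

/-- The six isometries of a plane. -/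
noncomputable def pl (a b : V6) : Fin 6 → Orth Q6 :=
  ![1, refl Q6 a * refl Q6 b, refl Q6 a * refl Q6 b * (refl Q6 a * refl Q6 b), refl Q6 a,
    refl Q6 a * (refl Q6 a * refl Q6 b), refl Q6 a * (refl Q6 a * refl Q6 b * (refl Q6 a * refl Q6 b))]

/-- The isometry of a parameter. -/
noncomputable def El (p : Par) : Orth Q6 :=
  pl a1 b1 (Fin.castLE (by omega) p.1) *
    (pl a2 b2 p.2.1 * (pl a3 b3 p.2.2.1 * if p.2.2.2 then SW else 1))

theorem pl_nine {a b : V6} (ha : q6 a = 1) (hb : q6 b = 1) (c : Fin 3)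
    (hA : ∀ n, rf a (nine n) = nine (tpl c 3 n)) (hR : ∀ n, rot a b (nine n) = nine (tpl c 1 n))
    (hT : ∀ n, tpl c 1 (tpl c 1 n) = tpl c 2 n ∧ tpl c 3 (tpl c 1 n) = tpl c 4 n ∧
      tpl c 3 (tpl c 2 n) = tpl c 5 n ∧ tpl c 0 n = n)
    (j : Fin 6) (n : Fin 3 × Fin 3) : (pl a b j).1 (nine n) = nine (tpl c j n) := by
  have r1 : ∀ n, (refl Q6 a * refl Q6 b).1 (nine n) = nine (tpl c 1 n) := fun n => by
    rw [mul_apply, refl6 hb, refl6 ha]; exact hR n
  have r2 : ∀ n, (refl Q6 a).1 (nine n) = nine (tpl c 3 n) := fun n => by rw [refl6 ha]; exact hA n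
  obtain ⟨t2, t4, t5, t0⟩ := hT n
  fin_cases j <;>
    simp only [pl, Matrix.cons_val_zero, Matrix.cons_val_one, Matrix.cons_val, Matrix.head_cons, Fin.mk_one,
      Fin.zero_eta, Fin.reduceFinMk]
  · rw [one_apply, t0]
  · exact r1 n
  · rw [mul_apply (refl Q6 a * refl Q6 b), r1, r1, t2]
  · exact r2 n
  · rw [mul_apply, r1, r2, t4]
  · rw [mul_apply, mul_apply (refl Q6 a * refl Q6 b), r1, r1, t2, r2, t5]

theorem El_nine (p : Par) (n : Fin 3 × Fin 3) : (El p).1 (nine n) = nine (T p n) := by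
  obtain ⟨i, j, k, s⟩ := p
  have hs : ((if s then SW else 1 : Orth Q6)).1 (nine n) = nine (tsw s n) := by
    revert n
    cases s
    · intro n; rfl
    · exact (by decide +kernel : ∀ n, swf (nine n) = nine (tsw true n))
  rw [El, T, mul_apply, mul_apply, mul_apply, hs,
    pl_nine one_a3.1 one_a3.2.1 2 (by decide +kernel) (by decide +kernel) (by decide +kernel),
    pl_nine one_a2.1 one_a2.2.1 1 (by decide +kernel) (by decide +kernel) (by decide +kernel),
    pl_nine one_a1.1 one_a1.2.1 0 (by decide +kernel) (by decide +kernel) (by decide +kernel)]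

theorem R1_nine (n : Fin 3 × Fin 3) : R1.1 (nine n) = nine (tpl 0 1 n) := by
  rw [R1_apply]; exact (by decide +kernel : ∀ n, rot a1 b1 (nine n) = nine (tpl 0 1 n)) n

theorem R2_nine (n : Fin 3 × Fin 3) : R2.1 (nine n) = nine (tpl 1 1 n) := by
  rw [R2_apply]; exact (by decide +kernel : ∀ n, rot a2 b2 (nine n) = nine (tpl 1 1 n)) n

theorem R3_nine (n : Fin 3 × Fin 3) : R3.1 (nine n) = nine (tpl 2 1 n) := by
  rw [R3_apply]; exact (by decide +kernel : ∀ n, rot a3 b3 (nine n) = nine (tpl 2 1 n)) n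

theorem eq_El {g : Orth Q6} {p : Par} (e : ∀ n, g.1 (nine n) = nine (T p n)) : g = El p :=
  ext_nine fun n => by rw [e, El_nine]

theorem commute_iff_T {p : Par} {r : Orth Q6} {t : Fin 3 × Fin 3 → Fin 3 × Fin 3}
    (hr : ∀ n, r.1 (nine n) = nine (t n)) : Commute (El p) r ↔ ∀ n, T p (t n) = t (T p n) := by
  constructor
  · intro h n
    refine nine_injective ?_
    have := congrArg (fun k : Orth Q6 => k.1 (nine n)) h.eq
    simpa only [mul_apply, El_nine, hr] using this
  · intro h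
    refine ext_nine fun n => ?_
    rw [mul_apply, mul_apply, hr, El_nine, El_nine, hr, h]

theorem plane_one : ∀ u : V6, q6 u = 1 → u + rot a1 b1 u + rot a1 b1 (rot a1 b1 u) = 0 →
    ∃ l, nine (0, l) = u := by decide +kernel

theorem six_cover : ∀ v : V6, q6 v = 1 → rot a1 b1 v = v → ∃ n, n.1 ≠ 0 ∧ nine n = v := by decide +kernel

theorem six_images : ∀ i j k l : Fin 3 × Fin 3, i.1 ≠ 0 → j.1 = i.1 → j.2 ≠ i.2 → k.1 ≠ 0 → k.1 ≠ i.1 →
    l.1 = k.1 → l.2 ≠ k.2 → ∃ p : Fin 6 × Fin 6 × Bool,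
      tpl 1 p.1 (tpl 2 p.2.1 (tsw p.2.2 (1, 0))) = i ∧ tpl 1 p.1 (tpl 2 p.2.1 (tsw p.2.2 (1, 1))) = j ∧
      tpl 1 p.1 (tpl 2 p.2.1 (tsw p.2.2 (2, 0))) = k ∧ tpl 1 p.1 (tpl 2 p.2.1 (tsw p.2.2 (2, 1))) = l := by
  decide +kernel

theorem supports : ∀ (i : Fin 6) (j k : Fin 6) (s : Bool) (l : Fin 3),
    tpl 1 j (tpl 2 k (tsw s (0, l))) = (0, l) ∧ ∀ n : Fin 3 × Fin 3, n.1 ≠ 0 → tpl 0 i n = n := by
  intro i j k s l
  refine ⟨?_, fun n hn => if_neg hn⟩
  cases s <;> rfl

theorem plane_img : ∀ l : Fin 3, tpl 0 (Fin.castLE (Nat.le_add_right 3 3) l : Fin 6) (0, 0) = (0, l) ∧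
    rot a1 b1 (nine (0, l)) = nine (tpl 0 (Fin.castLE (Nat.le_add_right 3 3) l : Fin 6) (0, 1)) := by
  decide +kernel

/-- The classification of the centralizer. -/
theorem exists_par {g : Orth Q6} (hc : Commute g R1) : ∃ p, g = El p := by
  have h : ∀ x, g.1 (rot a1 b1 x) = rot a1 b1 (g.1 x) := fun x => by
    have := congrArg (fun k : Orth Q6 => k.1 x) hc.eq
    simpa [mul_apply, R1_apply] using this
  obtain ⟨l, hl⟩ := plane_one (g.1 a1) (by rw [q6_g]; decide) (by
    rw [← h, ← h, ← map_add, ← map_add, show a1 + rot a1 b1 a1 + rot a1 b1 (rot a1 b1 a1) = 0 by decide,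
      map_zero])
  have hb1 : g.1 b1 = rot a1 b1 (g.1 a1) := by rw [← h]; rfl
  have hfix : ∀ n : Fin 3 × Fin 3, rot a1 b1 (nine n) = nine n → ∃ m, m.1 ≠ 0 ∧ nine m = g.1 (nine n) :=
    fun n hr => six_cover _ (by rw [q6_g, nine_one]) (by rw [← h, hr])
  obtain ⟨la, za, ea⟩ := hfix (1, 0) (by decide)
  obtain ⟨lb, -, eb⟩ := hfix (1, 1) (by decide)
  obtain ⟨ma, zf, fa⟩ := hfix (2, 0) (by decide)
  obtain ⟨mb, -, fb⟩ := hfix (2, 1) (by decide)
  have hB : ∀ {m n m' n'}, nine m = g.1 (nine m') → nine n = g.1 (nine n') →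
      (m.1 = n.1 ∧ m.2 ≠ n.2 ↔ m'.1 = n'.1 ∧ m'.2 ≠ n'.2) := fun {m n m' n'} e e' => by
    have := nine_B m n
    rw [e, e', B6_g, nine_B] at this
    split_ifs at this with h1 h2 h3 <;> first
      | exact iff_of_true ‹_› ‹_›
      | exact iff_of_false ‹_› ‹_›
      | exact absurd this (by decide)
  obtain ⟨p1, p2⟩ := (hB ea eb).2 ⟨rfl, by decide⟩
  obtain ⟨p3, p4⟩ := (hB fa fb).2 ⟨rfl, by decide⟩
  have p5 : ma.1 ≠ la.1 := by
    intro e
    by_cases hl2 : ma.2 = la.2
    · have := nine_injective.eq_iff.2 (Prod.ext e hl2)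
      rw [fa, ea] at this
      exact absurd (nine_injective (g.1.injective this)) (by decide)
    · exact absurd ((hB fa ea).1 ⟨e, hl2⟩).1 (by decide)
  obtain ⟨⟨j, k, s⟩, c1, c2, c3, c4⟩ := six_images la lb ma mb za p1.symm p2.symm zf p5 p3.symm p4.symm
  have hl' := plane_img
  refine ⟨(l, j, k, s), ext_nine fun n => ?_⟩
  suffices h6 : ∀ n : Fin 3 × Fin 3, n.2 ≠ 2 → g.1 (nine n) = (El (l, j, k, s)).1 (nine n) by
    by_cases hn : n.2 = 2
    · obtain ⟨b, c⟩ := n
      subst hn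
      rw [show nine (b, 2) = nine (b, 0) + nine (b, 1) by fin_cases b <;> rfl, map_add, map_add,
        h6 (b, 0) (show (0 : Fin 3) ≠ 2 by decide), h6 (b, 1) (show (1 : Fin 3) ≠ 2 by decide)]
    · exact h6 n hn
  intro n hn
  rw [El_nine, T]
  dsimp only
  obtain ⟨b, c⟩ := n
  have cases : (b = 0 ∨ b = 1 ∨ b = 2) ∧ (c = 0 ∨ c = 1 ∨ c = 2) := by
    revert b c; decide
  obtain ⟨rfl | rfl | rfl, rfl | rfl | rfl⟩ := cases
  all_goals try exact absurd rfl hn
  · rw [(supports 0 j k s 0).1, (hl' l).1]; exact hl.symm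
  · rw [(supports 0 j k s 1).1, ← (hl' l).2, hl]; exact hb1
  · rw [c1, (supports _ j k s 0).2 _ za]; exact ea.symm
  · rw [c2, (supports _ j k s 0).2 _ (fun e => za (p1.trans e))]; exact eb.symm
  · rw [c3, (supports _ j k s 0).2 _ zf]; exact fa.symm
  · rw [c4, (supports _ j k s 0).2 _ (fun e => zf (p3.trans e))]; exact fb.symm

theorem commute_El (p : Par) : Commute (El p) R1 :=
  (commute_iff_T R1_nine).2 ((by decide +kernel : ∀ p n, T p (tpl 0 1 n) = tpl 0 1 (T p n)) p)

theorem El_injective : Function.Injective El := by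
  intro p q e
  have h : ∀ n, T p n = T q n := fun n => nine_injective (by rw [← El_nine, ← El_nine, e])
  obtain ⟨i, x⟩ := p
  obtain ⟨i', x'⟩ := q
  have k1 : ∀ p : Par, T p (0, 0) = (0, p.1) := by decide +kernel
  obtain rfl : i = i' := by
    have := h (0, 0)
    rw [k1, k1] at this
    exact congrArg Prod.snd this
  have key : ∀ (i : Fin 3) (x y : Fin 6 × Fin 6 × Bool), T (i, x) (1, 0) = T (i, y) (1, 0) →
      T (i, x) (1, 1) = T (i, y) (1, 1) → T (i, x) (2, 0) = T (i, y) (2, 0) →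
      T (i, x) (2, 1) = T (i, y) (2, 1) → x = y := by decide +kernel
  rw [key i x x' (h _) (h _) (h _) (h _)]

/-- The centralizer of the first rotation among all isometries has order `216`. -/
theorem card_cent : Nat.card ↥(Subgroup.centralizer ({R1} : Set (Orth Q6))) = 216 := by
  have hb : Function.Bijective (fun p : Par =>
      (⟨El p, Subgroup.mem_centralizer_singleton_iff.2 (commute_El p).eq⟩ :
        ↥(Subgroup.centralizer ({R1} : Set (Orth Q6))))) := by
    refine ⟨fun p q e => El_injective (congrArg Subtype.val e), ?_⟩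
    rintro ⟨g, hg⟩
    obtain ⟨p, rfl⟩ := exists_par (Subgroup.mem_centralizer_singleton_iff.1 hg)
    exact ⟨p, rfl⟩
  rw [← Nat.card_congr (Equiv.ofBijective _ hb)]
  simp [Par]

theorem refl_a2 : refl Q6 a2 ∉ Ev ∧ Commute (refl Q6 a2) R1 := by
  refine ⟨refl_not_mem one_a2.1, ext_nine fun n => ?_⟩
  simp only [mul_apply, refl6 one_a2.1, R1_apply]
  exact (by decide +kernel : ∀ n, rf a2 (rot a1 b1 (nine n)) = rot a1 b1 (rf a2 (nine n))) n

theorem card_inf_index_two {H : Type*} [Group H] [Finite H] {C N : Subgroup H} (hN : N.index = 2) {a : H}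
    (haC : a ∈ C) (haN : a ∉ N) : Nat.card ↥(C ⊓ N) * 2 = Nat.card ↥C := by
  haveI : N.Normal := Subgroup.normal_of_index_eq_two hN
  have h2 : N.relIndex C = 2 := by
    have hd := Subgroup.relIndex_dvd_index_of_normal (H := N) (K := C)
    rw [hN] at hd
    exact ((Nat.dvd_prime Nat.prime_two).1 hd).resolve_left fun h1 => haN (Subgroup.relIndex_eq_one.1 h1 haC)
  have e : (C ⊓ N).relIndex C = 2 := by rw [inf_comm, Subgroup.inf_relIndex_right, h2]
  have h := Subgroup.relIndex_mul_relIndex (⊥ : Subgroup H) (C ⊓ N) C bot_le inf_le_left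
  rwa [Subgroup.relIndex_bot_left, Subgroup.relIndex_bot_left, e] at h

/-- The centralizer of the first rotation in the commutator subgroup has order `108`. -/
theorem card_cent_Ev : Nat.card ↥(Subgroup.centralizer ({R1} : Set (Orth Q6)) ⊓ Ev) = 108 := by
  haveI : Finite (Orth Q6) := Nat.finite_of_card_ne_zero (by rw [card_orth6]; norm_num)
  have h := card_inf_index_two (C := Subgroup.centralizer ({R1} : Set (Orth Q6))) index_Ev
    (Subgroup.mem_centralizer_singleton_iff.2 refl_a2.2.eq) refl_a2.1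
  rw [card_cent] at h
  omega

/-- Rotations of the three planes. -/
def IsRot (p : Par) : Prop := p.2.1 < 3 ∧ p.2.2.1 < 3 ∧ p.2.2.2 = false

instance (p : Par) : Decidable (IsRot p) := by unfold IsRot; infer_instance

/-- The product of two rotations. -/
def rmul (p q : Par) : Par :=
  (p.1 + q.1, ⟨(p.2.1.val + q.2.1.val) % 3, by omega⟩, ⟨(p.2.2.1.val + q.2.2.1.val) % 3, by omega⟩, false)

theorem El_rmul {p q : Par} (hp : IsRot p) (hq : IsRot q) : El p * El q = El (rmul p q) ∧ IsRot (rmul p q) := by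
  have key : ∀ p q, IsRot p → IsRot q → IsRot (rmul p q) ∧ ∀ n, T p (T q n) = T (rmul p q) n := by
    decide +kernel
  obtain ⟨h, e⟩ := key p q hp hq
  exact ⟨eq_El fun n => by rw [mul_apply, El_nine, El_nine, e], h⟩

theorem El_zero : El (0, 0, 0, false) = 1 :=
  (eq_El fun n => by rw [one_apply]; exact congrArg nine ((by decide +kernel : ∀ n, n = T (0, 0, 0, false) n) n)).symm

theorem rot_cube {p : Par} (hp : IsRot p) : El p ^ 3 = 1 := by
  obtain ⟨e, h⟩ := El_rmul hp hp
  rw [pow_succ, pow_two, e, (El_rmul h hp).1, ← El_zero]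
  have key : ∀ p, IsRot p → rmul (rmul p p) p = (0, 0, 0, false) := by decide +kernel
  rw [key p hp]

/-- An element of odd order centralizing the first rotation is a rotation. -/
theorem rot_of_odd {g : Orth Q6} (hc : Commute g R1) {n : ℕ} (hn : Odd n) (hg : g ^ n = 1) :
    ∃ p, IsRot p ∧ g = El p := by
  obtain ⟨p, rfl⟩ := exists_par hc
  have key : ∀ p, ∃ q, IsRot q ∧ ∀ n, T p (T p (T p (T p n))) = T q n := by decide +kernel
  obtain ⟨q, hq, e⟩ := key p
  have h4 : El p ^ 4 = El q := eq_El fun m => by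
    simp only [pow_succ, pow_zero, one_mul, mul_apply, El_nine, e]
  obtain ⟨k, j, hk⟩ : ∃ k j : ℕ, 4 * k = n * j + 1 := by
    obtain ⟨m, rfl⟩ := hn
    rcases Nat.even_or_odd m with ⟨l, rfl⟩ | ⟨l, rfl⟩
    · exact ⟨3 * l + 1, 3, by omega⟩
    · exact ⟨l + 1, 1, by omega⟩
  have hk' : El q ^ k = El p := by
    rw [← h4, ← pow_mul, hk, pow_add, pow_mul, hg, one_pow, one_mul, pow_one]
  suffices ∀ k : ℕ, ∃ r, IsRot r ∧ El q ^ k = El r by
    obtain ⟨r, hr, er⟩ := this k
    exact ⟨r, hr, hk'.symm.trans er⟩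
  intro k
  induction k with
  | zero => exact ⟨(0, 0, 0, false), by decide, by rw [pow_zero, El_zero]⟩
  | succ k ih =>
    obtain ⟨r, hr, er⟩ := ih
    exact ⟨_, (El_rmul hr hq).2, by rw [pow_succ, er, (El_rmul hr hq).1]⟩

/-- An element centralizing all three rotations is a rotation. -/
theorem rot_of_comm {g : Orth Q6} (h1 : Commute g R1) (h2 : Commute g R2) (h3 : Commute g R3) :
    ∃ p, IsRot p ∧ g = El p := by
  obtain ⟨p, rfl⟩ := exists_par h1
  refine ⟨p, ?_, rfl⟩
  have key : ∀ p, (∀ n, T p (tpl 1 1 n) = tpl 1 1 (T p n)) → (∀ n, T p (tpl 2 1 n) = tpl 2 1 (T p n)) →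
      IsRot p := by decide +kernel
  exact key p ((commute_iff_T R2_nine).1 h2) ((commute_iff_T R3_nine).1 h3)

/-- An element centralizing the first rotation and fixing its fixed space is a power of it. -/
theorem pow_of_fix {g : Orth Q6} (h1 : Commute g R1) (hf : ∀ v, rot a1 b1 v = v → g.1 v = v) :
    ∃ i : Fin 3, g = El (i, 0, 0, false) := by
  obtain ⟨p, rfl⟩ := exists_par h1
  have key : ∀ p : Par, T p (1, 0) = (1, 0) → T p (1, 1) = (1, 1) → T p (2, 0) = (2, 0) → T p (2, 1) = (2, 1) →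
      p.2 = (0, 0, false) := by decide +kernel
  have hT : ∀ n, rot a1 b1 (nine n) = nine n → T p n = n := fun n hn => nine_injective (by
    rw [← El_nine, hf _ hn])
  obtain ⟨i, p⟩ := p
  obtain rfl : p = (0, 0, false) :=
    key (i, p) (hT _ (by decide)) (hT _ (by decide)) (hT _ (by decide)) (hT _ (by decide))
  exact ⟨i, rfl⟩

end CfsgLib.SuzThree
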