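import Cfsg.Agent.Lib.SuzThree.Block
import Mathlib.GroupTheory.NoncommCoprod

/-!
The centralizer of the element of order three is of `U₄(3)` type modulo that element.
-/

set_option autoImplicit false
set_option linter.style.haveILetI false
set_option maxRecDepth 10000
set_option synthInstance.maxSize 20000
set_option synthInstance.maxHeartbeats 400000
set_option maxHeartbeats 400000

namespace CfsgLib.SuzThree

open CfsgLib.SuzType CfsgLib.Classical.Quad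
open CfsgLib.U43Type (SL23 Pr Qs)

theorem split_fixed : ∀ v : V6, rot a1 b1 v = v →
    ∃ i j : Fin 4, v = ![0, a2, b2, a2 + b2] i + ![0, a3, b3, a3 + b3] j := by decide +kernel

theorem planes_meet : ∀ v : V6, InPlane a2 b2 v → InPlane a3 b3 v → v = 0 := by decide +kernel

theorem rot_indep {i j k i' j' k' : ℕ} (h : R1 ^ i * (R2 ^ j * R3 ^ k) = R1 ^ i' * (R2 ^ j' * R3 ^ k')) :
    i % 3 = i' % 3 ∧ j % 3 = j' % 3 ∧ k % 3 = k' % 3 := by
  obtain ⟨c1, c2, c3, -⟩ := rot_facts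
  rw [pow_eq_pow_mod i c1, pow_eq_pow_mod j c2, pow_eq_pow_mod k c3, pow_eq_pow_mod i' c1,
    pow_eq_pow_mod j' c2, pow_eq_pow_mod k' c3] at h
  have hlt : ∀ n, n % 3 < 3 := fun n => Nat.mod_lt n (by norm_num)
  have e := El_injective (((El_rot ⟨_, hlt i⟩ ⟨_, hlt j⟩ ⟨_, hlt k⟩).trans h).trans
    (El_rot ⟨_, hlt i'⟩ ⟨_, hlt j'⟩ ⟨_, hlt k'⟩).symm)
  simp only [Prod.mk.injEq, Fin.ext_iff, Fin.val_castLE] at e
  exact ⟨e.1, e.2.1, e.2.2.1⟩

universe u v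

variable {G : Type u} [Group G]

namespace Frame

variable {S : Sys G} {z : G} (F : Frame S z)

/-- The coordinates of the pairs. -/
structure Factors (F : Frame S z) where
  B2 : Block F F.y2 R2 a2 b2
  B3 : Block F F.y3 R3 a3 b3
  comm : ∀ a b, Commute (B2.ψ a) (B3.ψ b)

theorem exists_factors [Finite G] : Nonempty F.Factors := by
  obtain ⟨-, -, -, g12, g13, g23⟩ := rot_facts
  obtain ⟨B2⟩ := F.exists_block plane_two (F.mem_W.2 ⟨F.hy2.1, F.c12⟩) F.hy2 F.cube2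
  obtain ⟨B3⟩ := F.exists_block plane_three (F.mem_W.2 ⟨F.hy3.1, F.c13⟩) F.hy3 F.cube3
  refine ⟨⟨B2, B3, fun a b => ?_⟩⟩
  obtain ⟨x2, hx2, e2, h2⟩ := B2.gens
  obtain ⟨x3, hx3, e3, h3⟩ := B3.gens
  have k1 : Commute x2 x3 := (F.M.commute_iff hx2 hx3).2 (by rw [e2, e3]; decide)
  have k2 : Commute F.y3 x2 := F.M.commute_of_fix F.hy3 F.cube3 hx2 (by rw [e2, R3_apply]; decide)
  have k3 : Commute F.y2 x3 := F.M.commute_of_fix F.hy2 F.cube2 hx3 (by rw [e3, R2_apply]; decide)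
  have step : Subgroup.closure ({x2, F.y2} : Set G) ≤ Subgroup.centralizer ({x3, F.y3} : Set G) := by
    rw [Subgroup.closure_le]
    rintro s (rfl | rfl) <;> refine Subgroup.mem_centralizer_iff.2 ?_ <;> rintro t (rfl | rfl)
    exacts [k1.eq.symm, k2.eq, k3.eq.symm, F.c23.eq]
  have h3' : Subgroup.closure ({x3, F.y3} : Set G) ≤ Subgroup.centralizer ({B2.ψ a} : Set G) := by
    rw [Subgroup.closure_le]
    intro t ht
    exact Subgroup.mem_centralizer_singleton_iff.2 (Subgroup.mem_centralizer_iff.1 (step (h2 a)) t ht)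
  exact (Subgroup.mem_centralizer_singleton_iff.1 (h3' (h3 b))).symm

variable {F} (P : F.Factors)

/-- The map from the pairs. -/
noncomputable def Factors.f0 : Pr →* ↥(Subgroup.centralizer ({F.y} : Set G)) :=
  (MonoidHom.noncommCoprod P.B2.ψ P.B3.ψ P.comm).codRestrict _ fun p =>
    Subgroup.mem_centralizer_singleton_iff.2
      ((F.mem_W.1 (P.B2.mem p.1)).2.mul_left (F.mem_W.1 (P.B3.mem p.2)).2).eq

theorem Factors.f0_apply (p : Pr) : (P.f0 p : G) = P.B2.ψ p.1 * P.B3.ψ p.2 := rfl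

theorem Factors.f0_W (p : Pr) : (P.f0 p : G) ∈ F.W :=
  F.W.mul_mem (P.B2.mem p.1) (P.B3.mem p.2)

theorem Factors.f0_acts (p : Pr) : ∃ j k : ℕ, Acts z (S.E z) F.π (P.f0 p : G) (R2 ^ j * R3 ^ k) := by
  obtain ⟨j, hj⟩ := P.B2.acts p.1
  obtain ⟨k, hk⟩ := P.B3.acts p.2
  exact ⟨j, k, F.M.acts_mul hj hk⟩

theorem Factors.eq_of_trivial (p : Pr) (h : (P.f0 p : G) = 1) : p = 1 ∨ p = (SL23.neg, SL23.neg) := by
  obtain ⟨a, b⟩ := p
  rw [P.f0_apply] at h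
  obtain ⟨j, hj⟩ := P.B2.acts a
  obtain ⟨k, hk⟩ := P.B3.acts b
  have h1 := F.M.acts_mul hj hk
  rw [h] at h1
  have hjk := rot_indep (i := 0) (j := j) (k := k) (i' := 0) (j' := 0) (k' := 0) (by
    simp only [pow_zero, one_mul]; exact F.M.acts_unique h1 (F.M.acts_mem (S.E z).one_mem))
  have hja : P.B2.ψ a ∈ S.E z := F.M.faith _ (by
    rw [pow_eq_pow_mod j rot_facts.2.1, hjk.2.1, Nat.zero_mod, pow_zero] at hj
    exact hj)
  have hb' : P.B3.ψ b = (P.B2.ψ a)⁻¹ := (inv_eq_of_mul_eq_one_right h).symm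
  have hz := planes_meet _ (P.B2.plane_of a hja) (by
    have := P.B3.plane_of b (by rw [hb']; exact (S.E z).inv_mem hja)
    rwa [hb', F.M.map_inv hja] at this)
  rcases (F.M.ker _ hja).1 hz with e | e
  · refine Or.inl (Prod.ext (P.B2.inj (e.trans (map_one _).symm)) (P.B3.inj ?_))
    rw [hb', e, inv_one]; exact (map_one _).symm
  · refine Or.inr (Prod.ext (P.B2.inj (e.trans P.B2.neg.symm)) (P.B3.inj ?_))
    rw [hb', e, P.B3.neg, inv_eq_of_mul_eq_one_right F.M.sq_one]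

theorem Factors.mem_D_eq {d : G} (hd : d ∈ F.D) : ∃ p ∈ Qs, (P.f0 p : G) = d := by
  obtain ⟨hdE, hdy⟩ := F.mem_D.1 hd
  obtain ⟨i, j, e⟩ := split_fixed _ ((F.comm_iff hdE).1 hdy)
  have i2 : ∀ i, InPlane a2 b2 (![0, a2, b2, a2 + b2] i) := by decide
  have i3 : ∀ i, InPlane a3 b3 (![0, a3, b3, a3 + b3] i) := by decide
  obtain ⟨q2, hq2, e2⟩ := F.M.surj (![0, a2, b2, a2 + b2] i)
  have hmem : q2⁻¹ * d ∈ S.E z := (S.E z).mul_mem ((S.E z).inv_mem hq2) hdE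
  obtain ⟨a, ha⟩ := P.B2.of_plane q2 hq2 (e2 ▸ i2 i)
  obtain ⟨b, hb⟩ := P.B3.of_plane _ hmem (by
    rw [F.M.map_mul _ ((S.E z).inv_mem hq2) _ hdE, F.M.map_inv hq2, e2, e, ← add_assoc, v6_add_self, zero_add]
    exact i3 j)
  refine ⟨(a, b), CfsgLib.U43Type.mem_Qs.2 ⟨P.B2.inj ?_, P.B3.inj ?_⟩, ?_⟩
  · rw [map_pow, ha, F.M.pow_four hq2, map_one]
  · rw [map_pow, hb, F.M.pow_four hmem, map_one]
  · rw [P.f0_apply, ha, hb, mul_inv_cancel_left]

theorem Factors.mem_D_of_Qs {p : Pr} (hp : p ∈ Qs) : (P.f0 p : G) ∈ F.D := by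
  obtain ⟨j, k, h⟩ := P.f0_acts p
  obtain ⟨-, c2, c3, -, -, g23⟩ := rot_facts
  have h4 := F.M.acts_pow h 4
  rw [← SubmonoidClass.coe_pow, ← map_pow,
    show p ^ 4 = 1 from Prod.ext (CfsgLib.U43Type.mem_Qs.1 hp).1 (CfsgLib.U43Type.mem_Qs.1 hp).2, map_one,
    (((g23.pow_left j).pow_right k)).mul_pow, ← pow_mul, ← pow_mul] at h4
  have hjk := rot_indep (i := 0) (j := j * 4) (k := k * 4) (i' := 0) (j' := 0) (k' := 0) (by
    simp only [pow_zero, one_mul]; exact F.M.acts_unique h4 (F.M.acts_mem (S.E z).one_mem))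
  refine F.mem_D_of_φ (x := ⟨_, P.f0_W p⟩) (F.M.acts_unique (F.φ_spec _).2 ?_)
  rwa [pow_eq_pow_mod j c2, pow_eq_pow_mod k c3, show j % 3 = 0 by omega, show k % 3 = 0 by omega, pow_zero,
    pow_zero, one_mul] at h

/-- An element acting as a rotation is a pair times a power of `y`. -/
theorem Factors.mem_range {x : G} (hx : x ∈ F.W) {p : Par} (hp : IsRot p) (h : F.φ ⟨x, hx⟩ = El p) :
    ∃ (q : Pr) (i : ℕ), x = (P.f0 q : G) * F.y ^ i := by
  obtain ⟨i, j, k, e⟩ := rot_form hp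
  obtain ⟨a, ha⟩ := P.B2.r_mem
  obtain ⟨b, hb⟩ := P.B3.r_mem
  have ht : Acts z (S.E z) F.π (F.y ^ i.val * (F.y2 ^ j.val * F.y3 ^ k.val)) (El p) :=
    e ▸ F.M.acts_mul (F.M.acts_pow F.hy _) (F.M.acts_mul (F.M.acts_pow F.hy2 _) (F.M.acts_pow F.hy3 _))
  have hW : F.y2 ^ j.val * F.y3 ^ k.val ∈ F.W :=
    F.W.mul_mem (F.W.pow_mem (F.mem_W.2 ⟨F.hy2.1, F.c12⟩) _) (F.W.pow_mem (F.mem_W.2 ⟨F.hy3.1, F.c13⟩) _)
  have hxd : x * (F.y ^ i.val * (F.y2 ^ j.val * F.y3 ^ k.val))⁻¹ ∈ F.D := by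
    refine F.mem_D_of_φ (x := ⟨_, F.W.mul_mem hx (F.W.inv_mem (F.W.mul_mem (F.pow_y_mem _) hW))⟩) ?_
    refine F.M.acts_unique (F.φ_spec _).2 ?_
    have := F.M.acts_mul (h ▸ (F.φ_spec ⟨x, hx⟩).2) (F.M.acts_inv ht)
    rwa [mul_inv_cancel] at this
  obtain ⟨q, -, hq⟩ := P.mem_D_eq hxd
  have hcy : Commute (F.y ^ i.val) (F.y2 ^ j.val * F.y3 ^ k.val) :=
    ((F.mem_W.1 hW).2.pow_right _).symm
  have hpair : (P.f0 (a ^ j.val, b ^ k.val) : G) = F.y2 ^ j.val * F.y3 ^ k.val := by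
    rw [P.f0_apply, map_pow, map_pow, ha, hb]
  refine ⟨q * (a ^ j.val, b ^ k.val), i.val, ?_⟩
  rw [map_mul, Subgroup.coe_mul, hq, hpair, mul_assoc, ← hcy.eq, inv_mul_cancel_right]

section Hyp

variable {H : Type v} [Group H] (q : ↥(Subgroup.centralizer ({F.y} : Set G)) →* H)
  (hsurj : Function.Surjective q) (hker : ∀ x, q x = 1 ↔ (x : G) ∈ Subgroup.zpowers F.y)

theorem coe_eq_of_q (hker : ∀ x, q x = 1 ↔ (x : G) ∈ Subgroup.zpowers F.y)
    {x x' : ↥(Subgroup.centralizer ({F.y} : Set G))} (h : q x = q x') :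
    ∃ t ∈ Subgroup.zpowers F.y, (x : G) = (x' : G) * t := by
  refine ⟨(x' : G)⁻¹ * x, ?_, by rw [mul_inv_cancel_left]⟩
  exact (hker (x'⁻¹ * x)).1 (by rw [map_mul, map_inv, h, inv_mul_cancel])

/-- An element centralizing the image of an element of two-power order centralizes it. -/
theorem commute_of_q (hker : ∀ x, q x = 1 ↔ (x : G) ∈ Subgroup.zpowers F.y)
    {x x' : ↥(Subgroup.centralizer ({F.y} : Set G))} {m : ℕ} (hm : (x' : G) ^ 2 ^ m = 1)
    (h : Commute (q x) (q x')) : Commute (x : G) (x' : G) := by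
  obtain ⟨t, ht, e⟩ := coe_eq_of_q q hker (x := x * x' * x⁻¹) (x' := x')
    (by rw [map_mul, map_mul, map_inv, h.eq, mul_inv_cancel_right])
  simp only [Subgroup.coe_mul, InvMemClass.coe_inv] at e
  obtain ⟨n, rfl⟩ := Subgroup.mem_zpowers_iff.1 ht
  have hc : Commute (x' : G) (F.y ^ n) := (show Commute (x' : G) F.y from Subgroup.mem_centralizer_singleton_iff.1 x'.2).zpow_right n
  have : (F.y ^ n) ^ 2 ^ m = 1 := by
    have h1 : ((x' : G) * F.y ^ n) ^ 2 ^ m = 1 := by rw [← e, conj_pow, hm, mul_one, mul_inv_cancel]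
    rwa [hc.mul_pow, hm, one_mul] at h1
  rw [F.y_pow_two (Subgroup.zpow_mem_zpowers _ _) this, mul_one] at e
  exact conj_eq_iff_commute.1 e

theorem card_zpowers : Nat.card (Subgroup.zpowers F.y) = 3 := by
  rw [Nat.card_zpowers]
  exact orderOf_eq_prime (by exact F.cube) F.y_ne

include hsurj hker in
/-- The quotient is of `U₄(3)` type. -/
theorem Factors.hyp [Finite G] : ∃ D : CfsgLib.U43Type.Hyp H,
    D.z = q ⟨z, Subgroup.mem_centralizer_singleton_iff.2 F.hy.1.symm.eq⟩ ∧ D.f = q.comp P.f0 := by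
  classical
  haveI : Finite H := Finite.of_surjective q hsurj
  have hzN : z ∈ Subgroup.centralizer ({F.y} : Set G) := Subgroup.mem_centralizer_singleton_iff.2 F.hy.1.symm.eq
  obtain ⟨zb, hzb⟩ : ∃ zb, zb = q ⟨z, hzN⟩ := ⟨_, rfl⟩
  have hz2 : z ^ 2 ^ 1 = 1 := by rw [pow_one, pow_two, F.M.sq_one]
  have hlift : ∀ {h : H}, Commute h zb → ∀ x, q x = h → (x : G) ∈ F.W := fun {h} hh x hx =>
    F.mem_W.2 ⟨commute_of_q q hker (x' := ⟨z, hzN⟩) hz2 (by rw [hx, ← hzb]; exact hh), Subgroup.mem_centralizer_singleton_iff.1 x.2⟩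
  have hzne : zb ≠ 1 := fun e => F.M.ne_one (F.D_inter_y F.z_mem_D ((hker ⟨z, hzN⟩).1 (hzb ▸ e)))
  have hpair : ∀ {x : ↥(Subgroup.centralizer ({F.y} : Set G))} (hx : (x : G) ∈ F.W) {p : Par}, IsRot p →
      F.φ ⟨x, hx⟩ = El p → ∃ r, q (P.f0 r) = q x := by
    intro x hx p hp e
    obtain ⟨r, i, hr⟩ := P.mem_range hx hp e
    refine ⟨r, ?_⟩
    have : x = P.f0 r * ⟨F.y ^ i, Subgroup.mem_centralizer_singleton_iff.2 ((Commute.refl F.y).pow_left i).eq⟩ :=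
      Subtype.ext hr
    rw [this, map_mul, (hker ⟨F.y ^ i, _⟩).2 (Subgroup.pow_mem _ (Subgroup.mem_zpowers _) i), mul_one]
  have hfc : ∀ p, Commute (q (P.f0 p)) zb := fun p => by
    show _ * _ = _ * _
    rw [hzb, ← map_mul, ← map_mul]
    exact congrArg q (Subtype.ext (F.mem_W.1 (P.f0_W p)).1.eq)
  have hQs : ∀ x : H, x ∈ Qs.map (q.comp P.f0) ↔
      ∃ d : ↥(Subgroup.centralizer ({F.y} : Set G)), (d : G) ∈ F.D ∧ q d = x := by
    intro x
    constructor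
    · rintro ⟨p, hp, rfl⟩
      exact ⟨P.f0 p, P.mem_D_of_Qs hp, rfl⟩
    · rintro ⟨d, hd, rfl⟩
      obtain ⟨p, hp, e⟩ := P.mem_D_eq hd
      exact ⟨p, hp, congrArg q (Subtype.ext e)⟩
  refine ⟨⟨zb, q.comp P.f0, hzne, ?_, ?_, ?_, hfc, ?_, ?_, ?_, ?_, ?_, ?_⟩, hzb, rfl⟩
  · rw [hzb, ← map_mul, ← map_one q]; exact congrArg q (Subtype.ext F.M.sq_one)
  · intro p
    constructor
    · intro h
      obtain ⟨j, k, hjk⟩ := P.f0_acts p
      obtain ⟨i, hi⟩ : ∃ i : ℕ, F.y ^ i = (P.f0 p : G) :=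
        (mem_powers_iff_mem_zpowers.2 ((hker _).1 h) : _)
      have hcmp := rot_indep (i := 0) (j := j) (k := k) (i' := i) (j' := 0) (k' := 0) (by
        simp only [pow_zero, one_mul, mul_one]
        exact F.M.acts_unique hjk (hi ▸ F.M.acts_pow F.hy i))
      refine P.eq_of_trivial p ?_
      rw [← hi, pow_eq_pow_mod i F.cube, show i % 3 = 0 by omega, pow_zero]
    · rintro (rfl | rfl)
      · exact map_one _
      · rw [MonoidHom.comp_apply, ← map_one q]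
        refine congrArg q (Subtype.ext ?_)
        rw [P.f0_apply, P.B2.neg, P.B3.neg, F.M.sq_one]; rfl
  · rw [MonoidHom.comp_apply, hzb]
    refine congrArg q (Subtype.ext ?_)
    rw [P.f0_apply, P.B2.neg, map_one, mul_one]
  · -- the order
    let W' := Subgroup.centralizer ({zb} : Set H)
    let r : ↥F.W →* ↥W' := MonoidHom.codRestrict (q.comp (Subgroup.inclusion inf_le_right)) _ fun x =>
      Subgroup.mem_centralizer_singleton_iff.2 (by
        show q _ * zb = zb * q _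
        rw [hzb, ← map_mul, ← map_mul]
        exact congrArg q (Subtype.ext (F.mem_W.1 x.2).1.eq))
    have hr : Function.Surjective r := by
      rintro ⟨h, hh⟩
      obtain ⟨x, hx⟩ := hsurj h
      exact ⟨⟨x, hlift (Subgroup.mem_centralizer_singleton_iff.1 hh) x hx⟩, Subtype.ext hx⟩
    have hk : r.ker = (Subgroup.zpowers F.y).subgroupOf F.W := by
      ext x
      rw [MonoidHom.mem_ker, Subgroup.mem_subgroupOf, Subtype.ext_iff]
      exact hker _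
    have hyW : Subgroup.zpowers F.y ≤ F.W := Subgroup.zpowers_le.2 (F.mem_W.2 ⟨F.hy.1, Commute.refl _⟩)
    have h := Subgroup.card_mul_index r.ker
    rw [Subgroup.index_ker, MonoidHom.range_eq_top.2 hr, Subgroup.card_top, hk,
      Nat.card_congr (Subgroup.subgroupOfEquivOfLe hyW).toEquiv, card_zpowers, F.card_W] at h
    show Nat.card ↥W' = 1152
    omega
  · -- invariance
    intro c hc p
    obtain ⟨x, hx⟩ := hsurj c
    have hxW := hlift hc x hx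
    have hW := F.W.mul_mem (F.W.mul_mem hxW (P.f0_W p)) (F.W.inv_mem hxW)
    obtain ⟨j, k, hjk⟩ := P.f0_acts p
    obtain ⟨-, c2, c3, g12, g13, g23⟩ := rot_facts
    have hcube : F.φ ⟨_, hW⟩ ^ 3 = 1 := by
      have e : F.φ ⟨_, hW⟩ = F.φ ⟨x, hxW⟩ * (R2 ^ j * R3 ^ k) * (F.φ ⟨x, hxW⟩)⁻¹ :=
        F.M.acts_unique (F.φ_spec _).2
          (F.M.acts_mul (F.M.acts_mul (F.φ_spec ⟨x, hxW⟩).2 hjk) (F.M.acts_inv (F.φ_spec ⟨x, hxW⟩).2))
      rw [e, conj_pow, ((g23.pow_left j).pow_right k).mul_pow, ← pow_mul, ← pow_mul, mul_comm j, mul_comm k,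
        pow_mul, pow_mul, c2, c3, one_pow, one_pow, one_mul, mul_one, mul_inv_cancel]
    obtain ⟨pp, hpp, e⟩ := rot_of_odd (F.φ_comm ⟨_, hW⟩) (n := 3) (by decide) hcube
    obtain ⟨r, hr⟩ := hpair (x := x * P.f0 p * x⁻¹) hW hpp e
    exact ⟨r, by rw [MonoidHom.comp_apply, hr, map_mul, map_mul, map_inv, hx, MonoidHom.comp_apply]⟩
  · -- elements of odd order
    intro c hc hodd
    obtain ⟨x, hx⟩ := hsurj c
    have hxW := hlift hc x hx
    obtain ⟨i, hi⟩ : ∃ i : ℕ, F.y ^ i = (x : G) ^ orderOf c := by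
      have : q (x ^ orderOf c) = 1 := by rw [map_pow, hx, pow_orderOf_eq_one]
      exact mem_powers_iff_mem_zpowers.2 ((hker _).1 this)
    have hn : F.φ ⟨x, hxW⟩ ^ (orderOf c * 3) = 1 := by
      have h : (⟨x, hxW⟩ : ↥F.W) ^ (orderOf c * 3) = 1 := Subtype.ext (by
        rw [SubmonoidClass.coe_pow, pow_mul, ← hi, ← pow_mul, mul_comm, pow_mul, F.cube, one_pow]; rfl)
      rw [← map_pow, h, map_one]
    obtain ⟨pp, hpp, e⟩ := rot_of_odd (F.φ_comm ⟨x, hxW⟩) (hodd.mul (by decide)) hn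
    obtain ⟨r, hr⟩ := hpair hxW hpp e
    exact ⟨r, by rw [MonoidHom.comp_apply, hr, hx]⟩
  · -- the centralizer of the extraspecial part
    intro c hc hall
    obtain ⟨x, hx⟩ := hsurj c
    have hxW := hlift hc x hx
    have hfix : ∀ v, rot a1 b1 v = v → (F.φ ⟨x, hxW⟩).1 v = v := by
      intro v hv
      obtain ⟨d, hdE, hdy, hdπ⟩ := F.exists_fixed hv
      obtain ⟨p, hp, e⟩ := P.mem_D_eq (F.mem_D.2 ⟨hdE, hdy⟩)
      have h4 : ((P.f0 p : ↥(Subgroup.centralizer ({F.y} : Set G))) : G) ^ 2 ^ 2 = 1 := by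
        rw [e]; exact F.M.pow_four hdE
      have hcm := commute_of_q q hker h4 (by rw [hx]; exact hall p hp)
      rw [← hdπ]
      exact F.M.fix_of_commute (F.φ_spec ⟨x, hxW⟩).2 hdE (e ▸ hcm)
    obtain ⟨i, e⟩ := pow_of_fix (F.φ_comm ⟨x, hxW⟩) hfix
    have hW2 : (x : G) * (F.y ^ i.val)⁻¹ ∈ F.W := F.W.mul_mem hxW (F.W.inv_mem (F.pow_y_mem _))
    have hd : (x : G) * (F.y ^ i.val)⁻¹ ∈ F.D := by
      refine F.mem_D_of_φ (x := ⟨_, hW2⟩) (F.M.acts_unique (F.φ_spec _).2 ?_)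
      have := F.M.acts_mul (F.φ_spec ⟨x, hxW⟩).2 (F.M.acts_inv (F.M.acts_pow F.hy i.val))
      rwa [e, El_fst, mul_inv_cancel] at this
    obtain ⟨p, hp, e'⟩ := P.mem_D_eq hd
    refine ⟨p, hp, ?_⟩
    have he : x = P.f0 p * ⟨F.y ^ i.val, Subgroup.mem_centralizer_singleton_iff.2
        ((Commute.refl F.y).pow_left _).eq⟩ := Subtype.ext (by rw [Subgroup.coe_mul, e', inv_mul_cancel_right])
    rw [← hx, he, map_mul, (hker ⟨F.y ^ i.val, _⟩).2 (Subgroup.pow_mem _ (Subgroup.mem_zpowers _) _), mul_one]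
    rfl
  · -- fusion
    obtain ⟨g, hgy, hgE, hgne⟩ := F.exists_move
    have hg : g ∈ Subgroup.centralizer ({F.y} : Set G) := Subgroup.mem_centralizer_singleton_iff.2 hgy.eq
    have hd : g * z * g⁻¹ ∈ F.D :=
      F.mem_D.2 ⟨hgE, (hgy.symm.mul_right F.hy.1).mul_right hgy.symm.inv_right⟩
    obtain ⟨p, hp, e⟩ := P.mem_D_eq hd
    have heq : q (P.f0 p) = q ⟨g, hg⟩ * zb * (q ⟨g, hg⟩)⁻¹ := by
      rw [hzb, ← map_inv, ← map_mul, ← map_mul]
      exact congrArg q (Subtype.ext e)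
    refine ⟨q ⟨g, hg⟩, p, hp, heq, fun h => hgne ?_⟩
    obtain ⟨t, ht, et⟩ := coe_eq_of_q q hker (x := P.f0 p) (x' := ⟨z, hzN⟩) (by rw [heq, h, hzb])
    rw [e] at et
    change g * z * g⁻¹ = z * t at et
    have h2 : t ∈ F.D := by
      rw [show t = z⁻¹ * (g * z * g⁻¹) by rw [et, inv_mul_cancel_left]]
      exact F.D.mul_mem (F.D.inv_mem F.z_mem_D) hd
    rw [et, F.D_inter_y h2 ht, mul_one]
  · -- intersections
    intro c hc hne
    obtain ⟨g, rfl⟩ := hsurj c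
    obtain ⟨d, hd, hde⟩ := (hQs _).1 hc
    have hgy : Commute F.y (g : G) := (Subgroup.mem_centralizer_singleton_iff.1 g.2).symm
    have hgz : (g : G) * z * (g : G)⁻¹ = (d : G) := by
      obtain ⟨t, ht, et⟩ := coe_eq_of_q q hker (x := g * ⟨z, hzN⟩ * g⁻¹) (x' := d)
        (by rw [map_mul, map_mul, map_inv, hde, hzb])
      simp only [Subgroup.coe_mul, InvMemClass.coe_inv] at et
      obtain ⟨n, rfl⟩ := Subgroup.mem_zpowers_iff.1 ht
      have hd4 : (d : G) ^ 2 ^ 2 = 1 := F.M.pow_four (F.mem_D.1 hd).1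
      have hcm : Commute (d : G) (F.y ^ n) := (F.mem_D.1 hd).2.symm.zpow_right n
      have h1 : ((d : G) * F.y ^ n) ^ 2 ^ 2 = 1 := by
        rw [← et, conj_pow, show z ^ 2 ^ 2 = 1 from F.M.pow_four F.M.mem, mul_one, mul_inv_cancel]
      rw [hcm.mul_pow, hd4, one_mul] at h1
      rw [et, F.y_pow_two (Subgroup.zpow_mem_zpowers _ _) h1, mul_one]
    have hu : (g : G) * z * (g : G)⁻¹ ∈ S.E z := hgz ▸ (F.mem_D.1 hd).1
    have hgne : (g : G) * z * (g : G)⁻¹ ≠ z := fun h => hne (by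
      rw [hzb, ← map_inv, ← map_mul, ← map_mul]; exact congrArg q (Subtype.ext h))
    rw [← F.card_inter hu hgne (hgz ▸ (F.mem_D.1 hd).2)]
    have hN : ∀ {e : G}, Commute F.y e → e ∈ Subgroup.centralizer ({F.y} : Set G) := fun h =>
      Subgroup.mem_centralizer_singleton_iff.2 h.symm.eq
    let T := {e : G // e ∈ S.E z ∧ Commute F.y e ∧ e ∈ S.E ((g : G) * z * (g : G)⁻¹)}
    let I := Qs.map (q.comp P.f0) ⊓ (Qs.map (q.comp P.f0)).map (MulAut.conj (q g)).toMonoidHom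
    have hmem : ∀ e : T, q ⟨e.1, hN e.2.2.1⟩ ∈ I := fun e => by
      refine ⟨(hQs _).2 ⟨_, F.mem_D.2 ⟨e.2.1, e.2.2.1⟩, rfl⟩, ?_⟩
      have hback : (g : G)⁻¹ * e.1 * (g : G) ∈ F.D := F.mem_D.2
        ⟨by
          have := S.mem_conj_back (g := (g : G)) (s := (g : G) * z * (g : G)⁻¹)
            (x := (g : G)⁻¹ * e.1 * (g : G)) (S.K_conj _ _ F.Kz)
            (by rw [show (g : G) * ((g : G)⁻¹ * e.1 * (g : G)) * (g : G)⁻¹ = e.1 by group]; exact e.2.2.2)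
          rwa [show (g : G)⁻¹ * ((g : G) * z * (g : G)⁻¹) * (g : G) = z by group] at this,
         (hgy.inv_right.mul_right e.2.2.1).mul_right hgy⟩
      refine ⟨q ⟨_, hN (F.mem_D.1 hback).2⟩, (hQs _).2 ⟨_, hback, rfl⟩, ?_⟩
      show q g * q _ * (q g)⁻¹ = _
      rw [← map_inv, ← map_mul, ← map_mul]
      refine congrArg q (Subtype.ext ?_)
      show (g : G) * ((g : G)⁻¹ * e.1 * (g : G)) * (g : G)⁻¹ = e.1
      group
    refine (Nat.card_eq_of_bijective (fun e : T => (⟨q ⟨e.1, hN e.2.2.1⟩, hmem e⟩ : I)) ⟨?_, ?_⟩).symm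
    · rintro ⟨e, he⟩ ⟨e', he'⟩ h
      obtain ⟨t, ht, et⟩ := coe_eq_of_q q hker (congrArg Subtype.val h)
      change e = e' * t at et
      have : t ∈ F.D := by
        rw [show t = e'⁻¹ * e by rw [et, inv_mul_cancel_left]]
        exact F.D.mul_mem (F.D.inv_mem (F.mem_D.2 ⟨he'.1, he'.2.1⟩)) (F.mem_D.2 ⟨he.1, he.2.1⟩)
      exact Subtype.ext (et.trans (by rw [F.D_inter_y this ht, mul_one]))
    · rintro ⟨h, h1, h2⟩
      obtain ⟨e, he, rfl⟩ := (hQs _).1 h1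
      obtain ⟨h', hh', e'⟩ := h2
      obtain ⟨e2, he2, rfl⟩ := (hQs _).1 hh'
      have e'' : q e = q (g * e2 * g⁻¹) := by rw [map_mul, map_mul, map_inv]; exact e'.symm
      obtain ⟨t, ht, et⟩ := coe_eq_of_q q hker e''
      simp only [Subgroup.coe_mul, InvMemClass.coe_inv] at et
      obtain ⟨n, rfl⟩ := Subgroup.mem_zpowers_iff.1 ht
      have hcm : Commute ((g : G) * e2 * (g : G)⁻¹) (F.y ^ n) :=
        ((hgy.mul_right (F.mem_D.1 he2).2).mul_right hgy.inv_right).symm.zpow_right n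
      have h1' : ((g : G) * e2 * (g : G)⁻¹ * F.y ^ n) ^ 2 ^ 2 = 1 := by
        rw [← et]; exact F.M.pow_four (F.mem_D.1 he).1
      rw [hcm.mul_pow, conj_pow, show (e2 : G) ^ 2 ^ 2 = 1 from F.M.pow_four (F.mem_D.1 he2).1, mul_one,
        mul_inv_cancel, one_mul] at h1'
      rw [F.y_pow_two (Subgroup.zpow_mem_zpowers _ _) h1', mul_one] at et
      have hmem' : (e : G) ∈ S.E ((g : G) * z * (g : G)⁻¹) := et ▸ S.mem_conj F.Kz (F.mem_D.1 he2).1
      exact ⟨⟨e, (F.mem_D.1 he).1, (F.mem_D.1 he).2, hmem'⟩, rfl⟩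

end Hyp

end Frame

end CfsgLib.SuzThree
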